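import Cfsg.Agent.ThRep.Maximal
import Cfsg.Prelude.Def_Sporadic

/-!
The presented Thompson group is simple.
-/

set_option autoImplicit false
set_option maxRecDepth 100000

namespace Cfsg.Lib.ThRep

open Cfsg Cfsg.Lib.ThCert

theorem u_rels : [14, 14, 5, 1] ∈ thWords ∧ [0, 4, 11, 15, 11, 15, 11, 15] ∈ thWords ∧
    [15, 12, 14, 12] ∈ thWords ∧ [12, 12, 12] ∈ thWords := by decide +kernel

theorem th_hom_a {Q : Type*} [Group Q] (f : Spor.Th →* Q) (ha : f (tg 0) = 1) : f = 1 := by
  have hm : (f.comp (fTh.comp mSub.subtype)) = 1 := hom_a _ (by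
    rw [MonoidHom.comp_apply, MonoidHom.comp_apply, Subgroup.subtype_apply, mg_coe (by norm_num), fTh_pg (by norm_num)]
    exact ha)
  have hk : ∀ i < 6, f (tg i) = 1 := fun i hi => by
    have h := DFunLike.congr_fun hm (mg i)
    rw [MonoidHom.comp_apply, MonoidHom.comp_apply, Subgroup.subtype_apply, mg_coe hi, fTh_pg (by omega)] at h
    exact h
  have hw : ∀ w ∈ thWords, wordVal (sgn fun i => f (tg i)) w = 1 := fun w hw => by
    rw [← map_one f, ← thWord_one hw, wordVal_map, funext (fun x => signed_tgen x)]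
    exact congrArg (fun v => wordVal v w) (funext fun x => (sgn_map f tg x).symm)
  obtain ⟨r1, r2, r3, r4⟩ := u_rels
  have h1 := hw _ r1
  have h2 := hw _ r2
  have h3 := hw _ r3
  have h4 := hw _ r4
  simp [wordVal, sgn, hk 0, hk 2, hk 5] at h1 h2 h3 h4
  have hu : f (tg 7) = 1 := by
    have : (f (tg 7))⁻¹ = f (tg 7) := inv_eq_of_mul_eq_one_right h1
    rw [this, h1, mul_one] at h2
    exact h2
  have ht : f (tg 6) = 1 := by
    simp [hu] at h3
    rw [← mul_assoc, h3, one_mul] at h4
    exact h4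
  refine PresentedGroup.ext fun g => ?_
  show f (tgen g) = 1
  cases g
  exacts [hk 0 (by norm_num), hk 1 (by norm_num), hk 2 (by norm_num), hk 3 (by norm_num), hk 4 (by norm_num),
    hk 5 (by norm_num), ht, hu]

theorem th_normal_a {N : Subgroup Spor.Th} (hN : N.Normal) (ha : tg 0 ∈ N) : N = ⊤ := by
  have h := th_hom_a (QuotientGroup.mk' N) ((QuotientGroup.eq_one_iff _).2 ha)
  exact eq_top_iff.2 fun g _ => (QuotientGroup.eq_one_iff g).1 (DFunLike.congr_fun h g)

theorem th_isSimple : IsSimpleGroup Spor.Th := by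
  obtain ⟨hfin, hcard, hidx, -⟩ := th_facts
  have := hfin
  have : Nontrivial Spor.Th := Finite.one_lt_card_iff_nontrivial.1 (by rw [hcard]; norm_num)
  refine ⟨fun N hN => ?_⟩
  rcases maximal_Kth (M := N ⊔ Kth) le_sup_right with h | h
  · left
    have hle : N ≤ Kth := h ▸ le_sup_left
    rcases normal_cases (N.comap fTh) (hN.comap fTh) with h0 | h0
    · exfalso
      have htop := th_normal_a hN (by rw [← fTh_pg (show 0 < 7 by norm_num)]; exact h0)
      rw [htop, top_le_iff] at hle
      rw [hle, Subgroup.index_top] at hidx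
      norm_num at hidx
    · rw [eq_bot_iff]
      intro g hg
      obtain ⟨a, rfl⟩ := hle hg
      have ha : a ∈ N.comap fTh := hg
      rw [h0, Subgroup.mem_bot] at ha
      rw [ha, map_one]
      exact Subgroup.one_mem _
  · right
    let φ : P →* Spor.Th ⧸ N := (QuotientGroup.mk' N).comp fTh
    have hsurj : Function.Surjective φ := fun q => by
      refine QuotientGroup.induction_on q fun g => ?_
      have hg : g ∈ ((N ⊔ Kth : Subgroup Spor.Th) : Set Spor.Th) := by rw [h]; exact Subgroup.mem_top g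
      rw [Subgroup.normal_mul] at hg
      obtain ⟨n, hn, k, ⟨a, rfl⟩, rfl⟩ := hg
      refine ⟨a, ?_⟩
      show ((fTh a : Spor.Th) : Spor.Th ⧸ N) = ((n * fTh a : Spor.Th) : Spor.Th ⧸ N)
      rw [QuotientGroup.mk_mul, (QuotientGroup.eq_one_iff n).2 hn, one_mul]
    rcases normal_cases φ.ker inferInstance with h0 | h0
    · exact th_normal_a hN (by rw [← fTh_pg (show 0 < 7 by norm_num)]; exact (QuotientGroup.eq_one_iff _).1 h0)
    · exfalso
      have hb : Function.Bijective φ := ⟨(MonoidHom.ker_eq_bot_iff φ).1 h0, hsurj⟩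
      let e := MulEquiv.ofBijective φ hb
      let ψ : Spor.Th →* P ⧸ mSub :=
        ((QuotientGroup.mk' mSub).comp e.symm.toMonoidHom).comp (QuotientGroup.mk' N)
      have hψ : ψ = 1 := th_hom_a ψ (by
        have ea : e.symm ((tg 0 : Spor.Th) : Spor.Th ⧸ N) = pg 0 := by
          rw [MulEquiv.symm_apply_eq]
          show _ = ((fTh (pg 0) : Spor.Th) : Spor.Th ⧸ N)
          rw [fTh_pg (by norm_num)]
        show ((e.symm ((tg 0 : Spor.Th) : Spor.Th ⧸ N) : P) : P ⧸ mSub) = 1
        rw [ea]
        exact (QuotientGroup.eq_one_iff _).2 (pg_mem_m (by norm_num)))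
      have hall : mSub = ⊤ := eq_top_iff.2 fun a _ => by
        have h1 := DFunLike.congr_fun hψ (fTh a)
        have h2 : ((e.symm (φ a) : P) : P ⧸ mSub) = 1 := h1
        rw [show e.symm (φ a) = a from e.symm_apply_apply a] at h2
        exact (QuotientGroup.eq_one_iff a).1 h2
      have hM := card_mSub
      rw [hall, Subgroup.card_top, card_P] at hM
      norm_num at hM

theorem th_isTh : IsTh Spor.Th := ⟨th_isSimple, th_facts.2.1⟩

end Cfsg.Lib.ThRep
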