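import Cfsg.Agent.ThRep.Simple
import Cfsg.Prelude.Def_Exceptional

/-!
The Thompson group as a group of matrices, with its subgroup containing a triality-twisted group.
-/

set_option autoImplicit false
set_option maxRecDepth 100000

namespace Cfsg.Lib.ThRep

open Cfsg Cfsg.Lib.ThCert

theorem th_image {G : Type*} [Group G] (f : Spor.Th →* G) (hinj : Function.Injective f) : ∃ H : Subgroup G, IsTh H ∧ ∃ K : Subgroup H,
    K.index = 143127000 ∧ ∃ L : Subgroup H, L ≤ K ∧ Is3D4 L := by
  obtain ⟨hfin, hcard, hidx, -⟩ := th_facts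
  let e : Spor.Th ≃* f.range := MonoidHom.ofInjective hinj
  have hsimple := th_isSimple
  refine ⟨f.range, ⟨e.symm.isSimpleGroup, by rw [← Nat.card_congr e.toEquiv]; exact hcard⟩,
    Kth.map e.toMonoidHom, (Subgroup.index_map_equiv Kth e).trans hidx, (mSub.map fTh).map e.toMonoidHom,
    Subgroup.map_mono (by rintro _ ⟨a, -, rfl⟩; exact ⟨a, rfl⟩), ?_, 2, by norm_num [Nat.prime_two.isPrimePow], ?_⟩
  · have := mSub_isSimple
    exact (((mSub.map fTh).equivMapOfInjective e.toMonoidHom e.injective).symm.trans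
      (mSub.equivMapOfInjective fTh fTh_injective).symm).isSimpleGroup
  · rw [Subgroup.card_map_of_injective (f := e.toMonoidHom) e.injective,
      Subgroup.card_map_of_injective fTh_injective, card_mSub]
    norm_num

theorem th_realisation : ∃ H : Subgroup (GL (Fin 248) (ZMod 3)), IsTh H ∧ ∃ K : Subgroup H,
    K.index = 143127000 ∧ ∃ L : Subgroup H, L ≤ K ∧ Is3D4 L :=
  th_image rho th_facts.2.2.2

end Cfsg.Lib.ThRep
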