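import Cfsg.Agent.ThRep.CentChk

/-!
The commutation of the series in the centraliser of an involution.
-/

set_option autoImplicit false
set_option maxRecDepth 100000
set_option exponentiation.threshold 3000
set_option Elab.async false

namespace Cfsg.Lib.ThRep

/-- The partner of a member. -/
def cqPair (i : ℕ) : ℕ := if i % 2 = 1 then i + 1 else i - 1

/-- The relations of a member with all members. -/
noncomputable def commOK (i : ℕ) : Bool :=
  Nat.beq (prodG 248 (gM cqMats i) (cqMats.getD i [])) one248 &&
    (List.range 9).all fun j =>
      let AB := prodG 248 (gM cqMats i) (cqMats.getD j [])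
      let BA := prodG 248 (gM cqMats j) (cqMats.getD i [])
      bif Nat.blt 0 i && Nat.beq j (cqPair i) then !Nat.beq AB BA && Nat.beq AB (prodG 248 BA (cqMats.getD 0 []))
      else Nat.beq AB BA

theorem cq_comm0 : commOK 0 = true := by decide +kernel

theorem cq_comm1 : commOK 1 = true := by decide +kernel

theorem cq_comm2 : commOK 2 = true := by decide +kernel

theorem cq_comm3 : commOK 3 = true := by decide +kernel

theorem cq_comm4 : commOK 4 = true := by decide +kernel

theorem cq_comm5 : commOK 5 = true := by decide +kernel

theorem cq_comm6 : commOK 6 = true := by decide +kernel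

theorem cq_comm7 : commOK 7 = true := by decide +kernel

theorem cq_comm8 : commOK 8 = true := by decide +kernel

end Cfsg.Lib.ThRep
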