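import Cfsg.Agent.ThRep.Series
import Cfsg.Agent.PGroups.SpecialCoprime
import Cfsg.Agent.PGroups.Basic
import Cfsg.Prelude.Def_Transfer

/-!
A criterion for a series to give an extraspecial group of exponent two modulo its first member.
-/

set_option autoImplicit false

namespace Cfsg.Lib.ThRep

open scoped commutatorElement

theorem extraspecial_of_series {E : Type*} [Group E] [Finite E] (g : ℕ → E) {n : ℕ} (hn : 2 < n)
    (hgen : headSub g n = ⊤) (hcard : Nat.card E = 2 ^ n) (ha : g 0 ≠ 1)
    (hsq : ∀ i < n, g i * g i = 1) (hcen : ∀ i < n, g 0 * g i = g i * g 0)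
    (hcomm : ∀ i < n, ∀ j < n, g i * g j = g j * g i ∨ g i * g j = g j * g i * g 0)
    (hpart : ∀ i < n, 0 < i → ∃ j < n, g i * g j ≠ g j * g i ∧ ∀ k < i, g k * g j = g j * g k) :
    Cfsg.IsExtraspecial 2 E := by
  set A := Subgroup.zpowers (g 0) with hA
  have ha0 : g 0 ∈ A := Subgroup.mem_zpowers _
  have hcenA : A ≤ Subgroup.center E := by
    rw [hA, Subgroup.zpowers_le, Subgroup.mem_center_iff]
    intro x
    have hx : x ∈ headSub g n := hgen ▸ Subgroup.mem_top x
    induction hx using Subgroup.closure_induction with
    | mem y hy => obtain ⟨i, hi, rfl⟩ := hy; exact (hcen i hi).symm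
    | one => rw [one_mul, mul_one]
    | mul u v _ _ hu hv => rw [mul_assoc, hv, ← mul_assoc, hu, mul_assoc]
    | inv u _ hu =>
      calc u⁻¹ * g 0 = u⁻¹ * (g 0 * u) * u⁻¹ := by group
        _ = u⁻¹ * (u * g 0) * u⁻¹ := by rw [hu]
        _ = g 0 * u⁻¹ := by group
  have hAn : A.Normal := ⟨fun x hx y => by
    rw [Subgroup.mem_center_iff.1 (hcenA hx) y, mul_inv_cancel_right]; exact hx⟩
  have hmkc : ∀ i < n, ∀ j < n, ((g i * g j : E) : E ⧸ A) = ((g j * g i : E) : E ⧸ A) := by
    intro i hi j hj
    rcases hcomm i hi j hj with h | h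
    · rw [h]
    · rw [h, QuotientGroup.mk_mul _ (g j * g i) (g 0), (QuotientGroup.eq_one_iff _).2 ha0, mul_one]
  have hq : ∀ x y : E, ((x : E ⧸ A) * y = y * x) := by
    have h1 : ∀ i < n, ∀ y : E, ((g i : E) : E ⧸ A) * y = y * (g i : E) := by
      intro i hi y
      have hy : y ∈ headSub g n := hgen ▸ Subgroup.mem_top y
      induction hy using Subgroup.closure_induction with
      | mem z hz => obtain ⟨j, hj, rfl⟩ := hz; exact hmkc i hi j hj
      | one => simp
      | mul u v _ _ hu hv => rw [QuotientGroup.mk_mul, ← mul_assoc, hu, mul_assoc, hv, mul_assoc]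
      | inv u _ hu => rw [QuotientGroup.mk_inv]; exact (Commute.inv_right (show Commute _ _ from hu)).eq
    intro x y
    have hx : x ∈ headSub g n := hgen ▸ Subgroup.mem_top x
    induction hx using Subgroup.closure_induction with
    | mem z hz => obtain ⟨i, hi, rfl⟩ := hz; exact h1 i hi y
    | one => simp
    | mul u v _ _ hu hv => rw [QuotientGroup.mk_mul, mul_assoc, hv, ← mul_assoc, hu, mul_assoc]
    | inv u _ hu => rw [QuotientGroup.mk_inv]; exact (Commute.inv_left (show Commute _ _ from hu)).eq
  have hexp : ∀ x : E, x ^ 2 ∈ A := by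
    intro x
    rw [← QuotientGroup.eq_one_iff, QuotientGroup.mk_pow]
    have hx : x ∈ headSub g n := hgen ▸ Subgroup.mem_top x
    induction hx using Subgroup.closure_induction with
    | mem z hz => obtain ⟨i, hi, rfl⟩ := hz; rw [pow_two, ← QuotientGroup.mk_mul, hsq i hi]; rfl
    | one => simp
    | mul u v _ _ hu hv => rw [QuotientGroup.mk_mul, (show Commute _ _ from hq u v).mul_pow, hu, hv, one_mul]
    | inv u _ hu => rw [QuotientGroup.mk_inv, inv_pow, hu, inv_one]
  have hdA : commutator E ≤ A := by
    rw [commutator_def, Subgroup.commutator_le]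
    intro x _ y _
    rw [commutatorElement_def, ← QuotientGroup.eq_one_iff, QuotientGroup.mk_mul, QuotientGroup.mk_mul,
      QuotientGroup.mk_mul, QuotientGroup.mk_inv, QuotientGroup.mk_inv, hq x y]
    group
  have horder : orderOf (g 0) = 2 := by
    refine orderOf_eq_prime ?_ ha
    rw [pow_two]; exact hsq 0 (by omega)
  have hAcard : Nat.card A = 2 := by rw [hA, Nat.card_zpowers, horder]
  have hstep : ∀ i, i ≤ n → ∀ z ∈ headSub g i, (∀ y, y * z = z * y) → z ∈ A := by
    intro i
    induction i with
    | zero =>
      intro _ z hz _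
      rw [headSub, show Set.Iio 0 = (∅ : Set ℕ) from Set.ext fun x => by simp, Set.image_empty,
        Subgroup.closure_empty, Subgroup.mem_bot] at hz
      rw [hz]; exact one_mem _
    | succ i ih =>
      intro hi z hz hc
      have hgi : g i * g i = 1 := hsq i (by omega)
      rcases Nat.eq_zero_or_pos i with hi0 | hi0
      · subst hi0
        have : headSub g 1 = A := by
          rw [headSub, hA, Subgroup.zpowers_eq_closure, show Set.Iio 1 = ({0} : Set ℕ) from Set.ext fun x => by simp,
            Set.image_singleton]
        rwa [this] at hz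
      have haH : A ≤ headSub g i := by
        rw [hA, Subgroup.zpowers_le]; exact Subgroup.subset_closure ⟨0, hi0, rfl⟩
      have hnorm : ∀ h ∈ headSub g i, g i * h * g i ∈ headSub g i := by
        intro h hh
        have hh' : h⁻¹ * (g i * h * g i) ∈ A := by
          rw [← QuotientGroup.eq_one_iff, QuotientGroup.mk_mul, QuotientGroup.mk_mul, QuotientGroup.mk_mul,
            QuotientGroup.mk_inv, hq (g i) h, mul_assoc, ← QuotientGroup.mk_mul, hgi]
          simp
        have := (headSub g i).mul_mem hh (haH hh')
        rwa [mul_inv_cancel_left] at this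
      have hcases : z ∈ headSub g i ∨ z * g i ∈ headSub g i := by
        clear hc
        induction hz using Subgroup.closure_induction with
        | mem y hy =>
          obtain ⟨j, hj, rfl⟩ := hy
          rcases Nat.lt_succ_iff_lt_or_eq.1 hj with hj | rfl
          · exact Or.inl (Subgroup.subset_closure ⟨j, hj, rfl⟩)
          · exact Or.inr (by rw [hgi]; exact one_mem _)
        | one => exact Or.inl (one_mem _)
        | mul u v _ _ hu hv =>
          rcases hu with hu | hu <;> rcases hv with hv | hv
          · exact Or.inl (mul_mem hu hv)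
          · exact Or.inr (by rw [mul_assoc]; exact mul_mem hu hv)
          · refine Or.inr ?_
            rw [show u * v * g i = u * g i * (g i * v * g i) by
              simp only [← mul_assoc]; rw [mul_assoc u (g i) (g i), hgi, mul_one]]
            exact mul_mem hu (hnorm v hv)
          · refine Or.inl ?_
            rw [show u * v = u * g i * (g i * (v * g i) * g i) by
              simp only [← mul_assoc]
              rw [mul_assoc u (g i) (g i), hgi, mul_one, mul_assoc (u * v) (g i) (g i), hgi, mul_one]]
            exact mul_mem hu (hnorm _ hv)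
        | inv u _ hu =>
          rcases hu with hu | hu
          · exact Or.inl (inv_mem hu)
          · refine Or.inr ?_
            rw [show u⁻¹ * g i = g i * (u * g i)⁻¹ * g i by
              rw [mul_inv_rev, ← mul_assoc (g i), inv_eq_of_mul_eq_one_right hgi, hgi, one_mul]]
            exact hnorm _ (inv_mem hu)
      rcases hcases with h | h
      · exact ih (by omega) z h hc
      · exfalso
        obtain ⟨j, hj, hne, hk⟩ := hpart i (by omega) hi0
        have hh : ∀ w ∈ headSub g i, w * g j = g j * w := by
          intro w hw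
          induction hw using Subgroup.closure_induction with
          | mem y hy => obtain ⟨k, hk', rfl⟩ := hy; exact hk k hk'
          | one => simp
          | mul u v _ _ hu hv => rw [mul_assoc, hv, ← mul_assoc, hu, mul_assoc]
          | inv u _ hu => exact (Commute.inv_left (show Commute _ _ from hu)).eq
        have e1 := hh _ h
        rw [mul_assoc, ← mul_assoc (g j) z, hc (g j), mul_assoc z] at e1
        exact hne (mul_left_cancel e1)
  have hcenter : Subgroup.center E = A := by
    refine le_antisymm (fun z hz => hstep n le_rfl z (hgen ▸ Subgroup.mem_top z) fun y => ?_) hcenA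
    exact Subgroup.mem_center_iff.1 hz y
  have hne : commutator E ≠ ⊥ := by
    intro h
    obtain ⟨j, hj, hne', -⟩ := hpart 1 (by omega) one_pos
    have hmem : ⁅g 1, g j⁆ ∈ commutator E := by
      rw [commutator_def]; exact Subgroup.commutator_mem_commutator (Subgroup.mem_top _) (Subgroup.mem_top _)
    rw [h, Subgroup.mem_bot] at hmem
    exact hne' (commutatorElement_eq_one_iff_mul_comm.1 hmem)
  have hdeq : commutator E = A := by
    refine Subgroup.eq_of_le_of_card_ge hdA ?_
    rw [hAcard]
    exact Finite.one_lt_card_iff_nontrivial.2 ((Subgroup.nontrivial_iff_ne_bot _).2 hne)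
  have : Fact (Nat.Prime 2) := ⟨Nat.prime_two⟩
  have hP : IsPGroup 2 E := IsPGroup.of_card hcard
  refine ⟨⟨hP, ?_, hdeq.trans hcenter.symm⟩, by rw [hcenter, hAcard]⟩
  rw [hcenter]
  exact le_antisymm (Cfsg.Lib.PGroups.SpecialCoprime.frattini_le_of_elementary A hexp hdA)
    (hdeq ▸ Cfsg.Lib.PGroups.commutator_le_frattini hP)

end Cfsg.Lib.ThRep
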