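import Cfsg.Agent.ThRep.CentGroup
import Cfsg.Agent.ThRep.CentComm
import Cfsg.Agent.ThRep.Extra
import Cfsg.Agent.LargeFischer.Setting

/-!
The centraliser of an involution in the presented Thompson group is an extraspecial group of order
two to the ninth extended by the alternating group of nine letters.
-/

set_option autoImplicit false
set_option maxRecDepth 100000
set_option exponentiation.threshold 3000

namespace Cfsg.Lib.ThRep

open Cfsg Cfsg.Lib.ThCert

theorem gSnd_apply (x : cGamma) : gSnd x = x.1.2 := rfl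

theorem gamma_fst_range :
    ((MonoidHom.fst (GL (Fin 248) (ZMod 3)) (alternatingGroup (Fin 9))).comp cGamma.subtype).range = cTh.map rho := by
  rw [MonoidHom.range_comp, Subgroup.range_subtype, fst_gamma, cTh_order.2.1]

attribute [local irreducible] mm3 prodG wmat one248 gM gEl redOK linkOK letGL cqMats cqWords cGamma gSnd

theorem comm_chk : ∀ i < 9, commOK i = true := fun i hi => by
  interval_cases i
  exacts [cq_comm0, cq_comm1, cq_comm2, cq_comm3, cq_comm4, cq_comm5, cq_comm6, cq_comm7, cq_comm8]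

section Generic

variable {ws Ms : List (List ℕ)} {n : ℕ}

theorem pair_two (hl : ∀ i < n, linkOK ws Ms i = true) {i j : ℕ} (hi : i < n) (hj : j < n) :
    RedN (248 * 248) (prodG 248 (gM Ms i) (Ms.getD j [])) ∧
      toMN 248 (prodG 248 (gM Ms i) (Ms.getD j [])) = (gEl ws i * gEl ws j).val := by
  obtain ⟨-, -, ri, -, ei⟩ := link_spec hl hi
  obtain ⟨lj, bj, -, ej, -⟩ := link_spec hl hj
  obtain ⟨h1, h2⟩ := toMN_prod (n := 248) lj ri bj
  exact ⟨h1, by rw [h2, ei, ej, Units.val_mul]⟩

theorem sq_of_beq (hl : ∀ i < n, linkOK ws Ms i = true) {i : ℕ} (hi : i < n)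
    (h : Nat.beq (prodG 248 (gM Ms i) (Ms.getD i [])) one248 = true) : gEl ws i * gEl ws i = 1 := by
  obtain ⟨-, h2⟩ := pair_two hl hi hi
  rw [Nat.eq_of_beq_eq_true h] at h2
  exact Units.ext (h2.symm.trans one248_spec.2)

theorem rel_of_beq (hl : ∀ i < n, linkOK ws Ms i = true) {i j : ℕ} (hi : i < n) (hj : j < n) (b : Bool)
    (h : (bif b then !Nat.beq (prodG 248 (gM Ms i) (Ms.getD j [])) (prodG 248 (gM Ms j) (Ms.getD i [])) &&
        Nat.beq (prodG 248 (gM Ms i) (Ms.getD j []))
          (prodG 248 (prodG 248 (gM Ms j) (Ms.getD i [])) (Ms.getD 0 []))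
      else Nat.beq (prodG 248 (gM Ms i) (Ms.getD j [])) (prodG 248 (gM Ms j) (Ms.getD i []))) = true) :
    if b = true then gEl ws i * gEl ws j ≠ gEl ws j * gEl ws i ∧
      gEl ws i * gEl ws j = gEl ws j * gEl ws i * gEl ws 0
    else gEl ws i * gEl ws j = gEl ws j * gEl ws i := by
  obtain ⟨r1, e1⟩ := pair_two hl hi hj
  obtain ⟨r2, e2⟩ := pair_two hl hj hi
  cases b with
  | true =>
    rw [if_pos rfl]
    rw [cond_true, Bool.and_eq_true, Bool.not_eq_true'] at h
    refine ⟨fun e => Nat.ne_of_beq_eq_false h.1 (toMN_inj r1 r2 (e1.trans ((congrArg Units.val e).trans e2.symm))), ?_⟩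
    obtain ⟨l0, b0, -, e0, -⟩ := link_spec hl (show 0 < n by omega)
    obtain ⟨-, e3⟩ := toMN_prod (n := 248) l0 r2 b0
    rw [← Nat.eq_of_beq_eq_true h.2, e1, e2, e0, ← Units.val_mul] at e3
    exact Units.ext e3
  | false =>
    rw [if_neg Bool.false_ne_true]
    rw [cond_false] at h
    have e := Nat.eq_of_beq_eq_true h
    rw [e, e2] at e1
    exact (Units.ext e1).symm

end Generic

theorem cq_sq {i : ℕ} (hi : i < 9) : gEl cqWords i * gEl cqWords i = 1 :=
  sq_of_beq cq_link_all hi ((Bool.and_eq_true _ _).mp (comm_chk i hi)).1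

/-- A member with another member: they commute unless they are partners. -/
theorem cq_rel {i j : ℕ} (hi : i < 9) (hj : j < 9) :
    if 0 < i ∧ j = cqPair i then gEl cqWords i * gEl cqWords j ≠ gEl cqWords j * gEl cqWords i ∧
      gEl cqWords i * gEl cqWords j = gEl cqWords j * gEl cqWords i * gEl cqWords 0
    else gEl cqWords i * gEl cqWords j = gEl cqWords j * gEl cqWords i := by
  have h := rel_of_beq cq_link_all hi hj (Nat.blt 0 i && Nat.beq j (cqPair i))
    (List.all_eq_true.1 ((Bool.and_eq_true _ _).mp (comm_chk i hi)).2 j (List.mem_range.2 hj))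
  have hiff : (Nat.blt 0 i && Nat.beq j (cqPair i)) = true ↔ 0 < i ∧ j = cqPair i := by
    rw [Bool.and_eq_true, Nat.blt_eq, Nat.beq_eq]
  by_cases hp : 0 < i ∧ j = cqPair i
  · rw [if_pos hp]
    rw [if_pos (hiff.2 hp)] at h
    exact h
  · rw [if_neg hp]
    rw [if_neg (fun e => hp (hiff.1 e))] at h
    exact h

theorem cq_pair_facts : ∀ i < 9, 0 < i → cqPair i < 9 ∧ ∀ k < i, 0 < k → cqPair i ≠ cqPair k := by decide +kernel

/-- A member in the subgroup of the series. -/
noncomputable def cqMem (i : ℕ) : cqSub :=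
  if h : i < 9 then ⟨gEl cqWords i, Subgroup.subset_closure ⟨i, h, rfl⟩⟩ else 1

theorem cqMem_val {i : ℕ} (hi : i < 9) : (cqMem i : GL (Fin 248) (ZMod 3)) = gEl cqWords i := by
  rw [cqMem, dif_pos hi]

theorem cqSub_extraspecial : Cfsg.IsExtraspecial 2 cqSub := by
  refine extraspecial_of_series cqMem (n := 9) (by norm_num) ?_ cq_card ?_ ?_ ?_ ?_ ?_
  · rw [← (Subgroup.map_injective (Subgroup.subtype_injective cqSub)).eq_iff, ← MonoidHom.range_eq_map,
      Subgroup.range_subtype, headSub, MonoidHom.map_closure, Set.image_image]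
    show _ = headSub (gEl cqWords) 9
    exact congrArg Subgroup.closure (Set.image_congr fun i hi => cqMem_val hi)
  · intro e
    have := congrArg Subtype.val e
    rw [cqMem_val (by norm_num)] at this
    exact sep_sound cq_link_all (by norm_num) cq_step0.2 (this ▸ one_mem _)
  · intro i hi
    refine Subtype.ext ?_
    rw [Subgroup.coe_mul, cqMem_val hi, cq_sq hi]
    rfl
  · intro i hi
    refine Subtype.ext ?_
    have h := cq_rel (show 0 < 9 by norm_num) hi
    rw [if_neg (fun h => lt_irrefl 0 h.1)] at h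
    rw [Subgroup.coe_mul, Subgroup.coe_mul, cqMem_val hi, cqMem_val (by norm_num), h]
  · intro i hi j hj
    have h := cq_rel hi hj
    by_cases hp : 0 < i ∧ j = cqPair i
    · rw [if_pos hp] at h
      refine Or.inr (Subtype.ext ?_)
      simp only [Subgroup.coe_mul]
      rw [cqMem_val hi, cqMem_val hj, cqMem_val (by norm_num : 0 < 9)]
      exact h.2
    · rw [if_neg hp] at h
      refine Or.inl (Subtype.ext ?_)
      simp only [Subgroup.coe_mul]
      rw [cqMem_val hi, cqMem_val hj]
      exact h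
  · intro i hi hi0
    obtain ⟨hj, hk⟩ := cq_pair_facts i hi hi0
    refine ⟨cqPair i, hj, fun e => ?_, fun k hki => Subtype.ext ?_⟩
    · have h := cq_rel hi hj
      rw [if_pos ⟨hi0, rfl⟩] at h
      have e' := congrArg Subtype.val e
      simp only [Subgroup.coe_mul] at e'
      rw [cqMem_val hi, cqMem_val hj] at e'
      exact h.1 e'
    · have hk9 : k < 9 := hki.trans hi
      have h := cq_rel hk9 hj
      rw [if_neg (fun h => hk k hki h.1 h.2)] at h
      simp only [Subgroup.coe_mul]
      rw [cqMem_val hk9, cqMem_val hj]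
      exact h

theorem gSnd_ker_extraspecial : Cfsg.IsExtraspecial 2 gSnd.ker := by
  let f : cqSub →* gSnd.ker :=
    { toFun := fun x => ⟨⟨(x.1, 1), cq_pairs x.2⟩, (MonoidHom.mem_ker).2 (gSnd_apply _)⟩
      map_one' := rfl
      map_mul' := fun a b => Subtype.ext (Subtype.ext (Prod.ext rfl (mul_one _).symm)) }
  have hinj : Function.Injective f := fun a b e =>
    Subtype.ext (congrArg (fun z : gSnd.ker => z.1.1.1) e)
  have : Finite gSnd.ker := Nat.finite_of_card_ne_zero (by rw [cTh_order.2.2]; norm_num)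
  exact Cfsg.Lib.LargeFischer.isExtraspecial_congr (A := cqSub) (B := gSnd.ker)
    (MulEquiv.ofBijective f (hinj.bijective_of_nat_card_le (by rw [cTh_order.2.2, cq_card]))) cqSub_extraspecial

theorem cq_head : cqWords.getD 0 [] = [0] := by decide +kernel

theorem tg_zero_order : orderOf (tg 0) = 2 := by
  obtain ⟨-, -, -, hinj⟩ := th_facts
  have e0 : tg 0 = thEl [0] := by simp [thEl, wordVal, signed, genList, tg]
  have er : rho (tg 0) = gEl cqWords 0 := by
    rw [e0, rho_thEl (by simp), gEl, cq_head]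
  refine orderOf_eq_prime ?_ fun e => ?_
  · apply hinj
    rw [map_pow, map_one, er, pow_two, cq_sq (by norm_num)]
  · rw [e, map_one] at er
    exact sep_sound cq_link_all (by norm_num) cq_step0.2 (er ▸ one_mem _)

theorem rho_injective : Function.Injective rho := th_facts.2.2.2

/-- The centraliser as the group of pairs. -/
noncomputable def cEquiv : cTh ≃* cGamma :=
  (Subgroup.equivMapOfInjective cTh rho rho_injective).trans
    ((MulEquiv.subgroupCongr gamma_fst_range.symm).trans
      (MonoidHom.ofInjective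
        (f := (MonoidHom.fst (GL (Fin 248) (ZMod 3)) (alternatingGroup (Fin 9))).comp cGamma.subtype) fst_inj).symm)

theorem cEquiv_fst (x : cTh) :
    (cEquiv x : GL (Fin 248) (ZMod 3) × alternatingGroup (Fin 9)).1 = rho (x : Spor.Th) := by
  have h := MonoidHom.apply_ofInjective_symm
    (f := (MonoidHom.fst (GL (Fin 248) (ZMod 3)) (alternatingGroup (Fin 9))).comp cGamma.subtype) fst_inj
    ((MulEquiv.subgroupCongr gamma_fst_range.symm) (Subgroup.equivMapOfInjective cTh rho rho_injective x))
  exact h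

/-- The action of the centraliser on nine letters. -/
noncomputable def cHom : cTh →* alternatingGroup (Fin 9) := gSnd.comp cEquiv.toMonoidHom

theorem cHom_surj : Function.Surjective cHom := gSnd_surj.comp cEquiv.surjective

theorem cHom_moves (x : cTh) : Moves (rho (x : Spor.Th)) (cHom x : Equiv.Perm (Fin 9)) := by
  have h := gamma_moves (cEquiv x).2
  rw [cEquiv_fst] at h
  show Moves _ ((gSnd (cEquiv x) : alternatingGroup (Fin 9)) : Equiv.Perm (Fin 9))
  rw [gSnd_apply]
  exact h

theorem cHom_ker : Nat.card cHom.ker = 2 ^ 9 ∧ Cfsg.IsExtraspecial 2 cHom.ker := by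
  let k : gSnd.ker ≃* cHom.ker :=
    { toFun := fun x => ⟨cEquiv.symm x.1, MonoidHom.mem_ker.2 (by
        show gSnd (cEquiv (cEquiv.symm x.1)) = 1
        rw [cEquiv.apply_symm_apply]; exact MonoidHom.mem_ker.1 x.2)⟩
      invFun := fun y => ⟨cEquiv y.1, MonoidHom.mem_ker.2 (MonoidHom.mem_ker.1 y.2)⟩
      left_inv := fun x => Subtype.ext (cEquiv.apply_symm_apply _)
      right_inv := fun y => Subtype.ext (cEquiv.symm_apply_apply _)
      map_mul' := fun a b => Subtype.ext (map_mul cEquiv.symm _ _) }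
  exact ⟨by rw [← Nat.card_congr k.toEquiv, cTh_order.2.2],
    Cfsg.Lib.LargeFischer.isExtraspecial_congr (A := gSnd.ker) (B := cHom.ker) k gSnd_ker_extraspecial⟩

theorem cTh_structure : ∃ (Q : Subgroup cTh) (_ : Q.Normal), Nat.card Q = 2 ^ 9 ∧ Cfsg.IsExtraspecial 2 Q ∧
    Nonempty (cTh ⧸ Q ≃* alternatingGroup (Fin 9)) :=
  ⟨cHom.ker, inferInstance, cHom_ker.1, cHom_ker.2,
    ⟨QuotientGroup.quotientKerEquivOfSurjective cHom cHom_surj⟩⟩

end Cfsg.Lib.ThRep
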