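import Cfsg.Agent.ThRep.Order

/-!
The subgroup of index 143127000 by its generators.
-/

set_option autoImplicit false
set_option maxRecDepth 100000

namespace Cfsg.Lib.ThRep

open Cfsg Cfsg.Lib.ThCert

theorem kth_gen : (Subgroup.closure ({Spor.Th.a, Spor.Th.b, Spor.Th.c, Spor.Th.d, Spor.Th.e, Spor.Th.s, Spor.Th.t} :
    Set (FreeGroup Spor.Th.Gen))).map (PresentedGroup.mk thRels) = Kth := by
  have hg : ∀ i : Fin 7, fTh (PresentedGroup.of i) = tg i.val := fun i => by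
    rw [← fTh_pg i.2, show (PresentedGroup.of i : P) = pg i.val by rw [pg, free7, Fin.ofNat_val_eq_self]; rfl]
  rw [MonoidHom.map_closure, show Kth = fTh.range from rfl, MonoidHom.range_eq_map,
    ← PresentedGroup.closure_range_of pRels, MonoidHom.map_closure]
  congr 1
  ext q
  simp only [Set.mem_image, Set.mem_insert_iff, Set.mem_singleton_iff, Set.mem_range]
  constructor
  · rintro ⟨x, hx, rfl⟩
    rcases hx with rfl | rfl | rfl | rfl | rfl | rfl | rfl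
    exacts [⟨_, ⟨0, rfl⟩, hg 0⟩, ⟨_, ⟨1, rfl⟩, hg 1⟩, ⟨_, ⟨2, rfl⟩, hg 2⟩, ⟨_, ⟨3, rfl⟩, hg 3⟩,
      ⟨_, ⟨4, rfl⟩, hg 4⟩, ⟨_, ⟨5, rfl⟩, hg 5⟩, ⟨_, ⟨6, rfl⟩, hg 6⟩]
  · rintro ⟨_, ⟨i, rfl⟩, rfl⟩
    rw [hg]
    fin_cases i
    exacts [⟨Spor.Th.a, by simp, rfl⟩, ⟨Spor.Th.b, by simp, rfl⟩, ⟨Spor.Th.c, by simp, rfl⟩, ⟨Spor.Th.d, by simp, rfl⟩,
      ⟨Spor.Th.e, by simp, rfl⟩, ⟨Spor.Th.s, by simp, rfl⟩, ⟨Spor.Th.t, by simp, rfl⟩]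

end Cfsg.Lib.ThRep
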