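import Cfsg.Agent.ThRep.SylChk3B
import Cfsg.Agent.ThRep.Data.SylWords
import Cfsg.Agent.ThRep.Data.OrdMat

/-!
Elements of orders 19 and 31.
-/

set_option autoImplicit false
set_option maxRecDepth 100000
set_option exponentiation.threshold 3000
set_option Elab.async false

namespace Cfsg.Lib.ThRep

/-- The words. -/
def ordWords : List (List ℕ) := [word19, word31]

/-- Their rows. -/
def ordMats : List (List ℕ) := [mat19, mat31]

theorem ord_link0 : linkOK ordWords ordMats 0 = true := by decide +kernel

theorem ord_link1 : linkOK ordWords ordMats 1 = true := by decide +kernel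

theorem ord_pow0 : Nat.beq (mulSeq ordMats one248 (List.replicate 19 0)) one248 = true ∧
    Nat.beq (gM ordMats 0) one248 = false := by decide +kernel

theorem ord_pow1 : Nat.beq (mulSeq ordMats one248 (List.replicate 31 1)) one248 = true ∧
    Nat.beq (gM ordMats 1) one248 = false := by decide +kernel

theorem ord_sound {i p : ℕ} (hi : i < 2) (hp : p.Prime)
    (h : Nat.beq (mulSeq ordMats one248 (List.replicate p i)) one248 = true ∧
      Nat.beq (gM ordMats i) one248 = false) : orderOf (gEl ordWords i) = p := by
  have hl : ∀ j < 2, linkOK ordWords ordMats j = true := fun j hj => by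
    interval_cases j
    exacts [ord_link0, ord_link1]
  obtain ⟨-, -, h1, -, h2⟩ := link_spec hl hi
  have := Fact.mk hp
  refine orderOf_eq_prime ?_ fun e => ?_
  · obtain ⟨-, h4⟩ := mulSeq_spec hl (List.replicate p i) one248
      (fun k hk => by rw [List.eq_of_mem_replicate hk]; exact hi) one248_spec.1
    rw [Nat.eq_of_beq_eq_true h.1, one248_spec.2, one_mul, List.map_replicate, List.prod_replicate] at h4
    exact Units.ext h4.symm
  · rw [e, Units.val_one, ← one248_spec.2] at h2
    exact Nat.ne_of_beq_eq_false h.2 (toMN_inj h1 one248_spec.1 h2)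

theorem words_small : (∀ x ∈ word19, x < 16) ∧ ∀ x ∈ word31, x < 16 := by decide +kernel

end Cfsg.Lib.ThRep
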