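import Cfsg.Agent.ThRep.Series
import Cfsg.Agent.ThRep.Data.Syl2
import Cfsg.Agent.ThRep.Data.Syl2Mat

/-!
Checks of the series for the prime 2.
-/

set_option autoImplicit false
set_option maxRecDepth 100000
set_option exponentiation.threshold 3000
set_option Elab.async false

namespace Cfsg.Lib.ThRep

theorem p2_link0 : linkOK p2Words p2Mats 0 = true := by decide +kernel

theorem p2_step0 : relsOK p2Mats 2 0 (p2Pow.getD 0 []) (p2Conj.getD 0 []) = true ∧
    sepOK p2Mats 0 p2Orb0 p2Link0 = true := by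
  decide +kernel

theorem p2_link1 : linkOK p2Words p2Mats 1 = true := by decide +kernel

theorem p2_step1 : relsOK p2Mats 2 1 (p2Pow.getD 1 []) (p2Conj.getD 1 []) = true ∧
    sepOK p2Mats 1 p2Orb1 p2Link1 = true := by
  decide +kernel

theorem p2_link2 : linkOK p2Words p2Mats 2 = true := by decide +kernel

theorem p2_step2 : relsOK p2Mats 2 2 (p2Pow.getD 2 []) (p2Conj.getD 2 []) = true ∧
    sepOK p2Mats 2 p2Orb2 p2Link2 = true := by
  decide +kernel

theorem p2_link3 : linkOK p2Words p2Mats 3 = true := by decide +kernel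

theorem p2_step3 : relsOK p2Mats 2 3 (p2Pow.getD 3 []) (p2Conj.getD 3 []) = true ∧
    sepOK p2Mats 3 p2Orb3 p2Link3 = true := by
  decide +kernel

theorem p2_link4 : linkOK p2Words p2Mats 4 = true := by decide +kernel

theorem p2_step4 : relsOK p2Mats 2 4 (p2Pow.getD 4 []) (p2Conj.getD 4 []) = true ∧
    sepOK p2Mats 4 p2Orb4 p2Link4 = true := by
  decide +kernel

theorem p2_link5 : linkOK p2Words p2Mats 5 = true := by decide +kernel

theorem p2_step5 : relsOK p2Mats 2 5 (p2Pow.getD 5 []) (p2Conj.getD 5 []) = true ∧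
    sepOK p2Mats 5 p2Orb5 p2Link5 = true := by
  decide +kernel

theorem p2_link6 : linkOK p2Words p2Mats 6 = true := by decide +kernel

theorem p2_step6 : relsOK p2Mats 2 6 (p2Pow.getD 6 []) (p2Conj.getD 6 []) = true ∧
    sepOK p2Mats 6 p2Orb6 p2Link6 = true := by
  decide +kernel

theorem p2_link7 : linkOK p2Words p2Mats 7 = true := by decide +kernel

theorem p2_step7 : relsOK p2Mats 2 7 (p2Pow.getD 7 []) (p2Conj.getD 7 []) = true ∧
    sepOK p2Mats 7 p2Orb7 p2Link7 = true := by
  decide +kernel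

end Cfsg.Lib.ThRep
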