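import Cfsg.Agent.ThRep.SylChk2A
import Cfsg.Agent.ThRep.Data.Syl2
import Cfsg.Agent.ThRep.Data.Syl2Mat

/-!
Checks of the series for the prime 2.
-/

set_option autoImplicit false
set_option maxRecDepth 100000
set_option exponentiation.threshold 3000
set_option Elab.async false

namespace Cfsg.Lib.ThRep

theorem p2_link8 : linkOK p2Words p2Mats 8 = true := by decide +kernel

theorem p2_step8 : relsOK p2Mats 2 8 (p2Pow.getD 8 []) (p2Conj.getD 8 []) = true ∧
    sepOK p2Mats 8 p2Orb8 p2Link8 = true := by
  decide +kernel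

theorem p2_link9 : linkOK p2Words p2Mats 9 = true := by decide +kernel

theorem p2_step9 : relsOK p2Mats 2 9 (p2Pow.getD 9 []) (p2Conj.getD 9 []) = true ∧
    sepOK p2Mats 9 p2Orb9 p2Link9 = true := by
  decide +kernel

theorem p2_link10 : linkOK p2Words p2Mats 10 = true := by decide +kernel

theorem p2_step10 : relsOK p2Mats 2 10 (p2Pow.getD 10 []) (p2Conj.getD 10 []) = true ∧
    sepOK p2Mats 10 p2Orb10 p2Link10 = true := by
  decide +kernel

theorem p2_link11 : linkOK p2Words p2Mats 11 = true := by decide +kernel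

theorem p2_step11 : relsOK p2Mats 2 11 (p2Pow.getD 11 []) (p2Conj.getD 11 []) = true ∧
    sepOK p2Mats 11 p2Orb11 p2Link11 = true := by
  decide +kernel

end Cfsg.Lib.ThRep
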