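import Cfsg.Agent.ThRep.SylChk2B
import Cfsg.Agent.ThRep.Data.Syl2
import Cfsg.Agent.ThRep.Data.Syl2Mat

/-!
Checks of the series for the prime 2.
-/

set_option autoImplicit false
set_option maxRecDepth 100000
set_option exponentiation.threshold 3000
set_option Elab.async false

namespace Cfsg.Lib.ThRep

theorem p2_link12 : linkOK p2Words p2Mats 12 = true := by decide +kernel

theorem p2_step12 : relsOK p2Mats 2 12 (p2Pow.getD 12 []) (p2Conj.getD 12 []) = true ∧
    sepOK p2Mats 12 p2Orb12 p2Link12 = true := by
  decide +kernel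

theorem p2_link13 : linkOK p2Words p2Mats 13 = true := by decide +kernel

theorem p2_step13 : relsOK p2Mats 2 13 (p2Pow.getD 13 []) (p2Conj.getD 13 []) = true ∧
    sepOK p2Mats 13 p2Orb13 p2Link13 = true := by
  decide +kernel

theorem p2_link14 : linkOK p2Words p2Mats 14 = true := by decide +kernel

theorem p2_step14 : relsOK p2Mats 2 14 (p2Pow.getD 14 []) (p2Conj.getD 14 []) = true ∧
    sepOK p2Mats 14 p2Orb14 p2Link14 = true := by
  decide +kernel

end Cfsg.Lib.ThRep
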