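import Cfsg.Agent.ThRep.SylChk5
import Cfsg.Agent.ThRep.Data.Syl3
import Cfsg.Agent.ThRep.Data.Syl3Mat

/-!
Checks of the series for the prime 3.
-/

set_option autoImplicit false
set_option maxRecDepth 100000
set_option exponentiation.threshold 3000
set_option Elab.async false

namespace Cfsg.Lib.ThRep

theorem p3_link0 : linkOK p3Words p3Mats 0 = true := by decide +kernel

theorem p3_step0 : relsOK p3Mats 3 0 (p3Pow.getD 0 []) (p3Conj.getD 0 []) = true ∧
    sepOK p3Mats 0 p3Orb0 p3Link0 = true := by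
  decide +kernel

theorem p3_link1 : linkOK p3Words p3Mats 1 = true := by decide +kernel

theorem p3_step1 : relsOK p3Mats 3 1 (p3Pow.getD 1 []) (p3Conj.getD 1 []) = true ∧
    sepOK p3Mats 1 p3Orb1 p3Link1 = true := by
  decide +kernel

theorem p3_link2 : linkOK p3Words p3Mats 2 = true := by decide +kernel

theorem p3_step2 : relsOK p3Mats 3 2 (p3Pow.getD 2 []) (p3Conj.getD 2 []) = true ∧
    sepOK p3Mats 2 p3Orb2 p3Link2 = true := by
  decide +kernel

theorem p3_link3 : linkOK p3Words p3Mats 3 = true := by decide +kernel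

theorem p3_step3 : relsOK p3Mats 3 3 (p3Pow.getD 3 []) (p3Conj.getD 3 []) = true ∧
    sepOK p3Mats 3 p3Orb3 p3Link3 = true := by
  decide +kernel

theorem p3_link4 : linkOK p3Words p3Mats 4 = true := by decide +kernel

theorem p3_step4 : relsOK p3Mats 3 4 (p3Pow.getD 4 []) (p3Conj.getD 4 []) = true ∧
    sepOK p3Mats 4 p3Orb4 p3Link4 = true := by
  decide +kernel

end Cfsg.Lib.ThRep
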