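import Cfsg.Agent.ThRep.SylChk3A
import Cfsg.Agent.ThRep.Data.Syl3
import Cfsg.Agent.ThRep.Data.Syl3Mat

/-!
Checks of the series for the prime 3.
-/

set_option autoImplicit false
set_option maxRecDepth 100000
set_option exponentiation.threshold 3000
set_option Elab.async false

namespace Cfsg.Lib.ThRep

theorem p3_link5 : linkOK p3Words p3Mats 5 = true := by decide +kernel

theorem p3_step5 : relsOK p3Mats 3 5 (p3Pow.getD 5 []) (p3Conj.getD 5 []) = true ∧
    sepOK p3Mats 5 p3Orb5 p3Link5 = true := by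
  decide +kernel

theorem p3_link6 : linkOK p3Words p3Mats 6 = true := by decide +kernel

theorem p3_step6 : relsOK p3Mats 3 6 (p3Pow.getD 6 []) (p3Conj.getD 6 []) = true ∧
    sepOK p3Mats 6 p3Orb6 p3Link6 = true := by
  decide +kernel

theorem p3_link7 : linkOK p3Words p3Mats 7 = true := by decide +kernel

theorem p3_step7 : relsOK p3Mats 3 7 (p3Pow.getD 7 []) (p3Conj.getD 7 []) = true ∧
    sepOK p3Mats 7 p3Orb7 p3Link7 = true := by
  decide +kernel

theorem p3_link8 : linkOK p3Words p3Mats 8 = true := by decide +kernel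

theorem p3_step8 : relsOK p3Mats 3 8 (p3Pow.getD 8 []) (p3Conj.getD 8 []) = true ∧
    sepOK p3Mats 8 p3Orb8 p3Link8 = true := by
  decide +kernel

theorem p3_link9 : linkOK p3Words p3Mats 9 = true := by decide +kernel

theorem p3_step9 : relsOK p3Mats 3 9 (p3Pow.getD 9 []) (p3Conj.getD 9 []) = true ∧
    sepOK p3Mats 9 p3Orb9 p3Link9 = true := by
  decide +kernel

end Cfsg.Lib.ThRep
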