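import Cfsg.Agent.ThRep.Series
import Cfsg.Agent.ThRep.Data.Syl5
import Cfsg.Agent.ThRep.Data.Syl5Mat

/-!
Checks of the series for the prime 5.
-/

set_option autoImplicit false
set_option maxRecDepth 100000
set_option exponentiation.threshold 3000
set_option Elab.async false

namespace Cfsg.Lib.ThRep

theorem p5_link0 : linkOK p5Words p5Mats 0 = true := by decide +kernel

theorem p5_step0 : relsOK p5Mats 5 0 (p5Pow.getD 0 []) (p5Conj.getD 0 []) = true ∧
    sepOK p5Mats 0 p5Orb0 p5Link0 = true := by
  decide +kernel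

theorem p5_link1 : linkOK p5Words p5Mats 1 = true := by decide +kernel

theorem p5_step1 : relsOK p5Mats 5 1 (p5Pow.getD 1 []) (p5Conj.getD 1 []) = true ∧
    sepOK p5Mats 1 p5Orb1 p5Link1 = true := by
  decide +kernel

theorem p5_link2 : linkOK p5Words p5Mats 2 = true := by decide +kernel

theorem p5_step2 : relsOK p5Mats 5 2 (p5Pow.getD 2 []) (p5Conj.getD 2 []) = true ∧
    sepOK p5Mats 2 p5Orb2 p5Link2 = true := by
  decide +kernel

end Cfsg.Lib.ThRep
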