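import Cfsg.Agent.ThRep.Inj
import Cfsg.Agent.ThRep.OrdChk
import Cfsg.Agent.ThRep.SylChk5
import Cfsg.Agent.ThRep.SylChk3A
import Cfsg.Agent.ThRep.SylChk3B
import Cfsg.Agent.ThRep.SylChk2A
import Cfsg.Agent.ThRep.SylChk2B
import Cfsg.Agent.ThRep.SylChk2C

/-!
The order of the presented Thompson group, and the exact index of its subgroup.
-/

set_option autoImplicit false
set_option maxRecDepth 100000
set_option exponentiation.threshold 3000

namespace Cfsg.Lib.ThRep

open Cfsg Cfsg.Lib.ThCert

attribute [local irreducible] mm3 prodG wmat one248 gM redOK relsOK sepOK linkOK letGL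

theorem p5_small : (∀ i < 3, ∀ x ∈ p5Words.getD i [], x < 16) := by
  decide +kernel

theorem p5_card : Nat.card (headSub (gEl p5Words) 3) = 5 ^ 3 := by
  have hl : ∀ i < 3, linkOK p5Words p5Mats i = true := fun i hi => by
    interval_cases i
    exacts [p5_link0, p5_link1, p5_link2]
  refine series_card (by norm_num) _ _ fun i hi => ?_
  interval_cases i
  · exact ⟨(rels_sound hl (by norm_num) p5_step0.1).1, (rels_sound hl (by norm_num) p5_step0.1).2,
      sep_sound hl (by norm_num) p5_step0.2⟩
  · exact ⟨(rels_sound hl (by norm_num) p5_step1.1).1, (rels_sound hl (by norm_num) p5_step1.1).2,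
      sep_sound hl (by norm_num) p5_step1.2⟩
  · exact ⟨(rels_sound hl (by norm_num) p5_step2.1).1, (rels_sound hl (by norm_num) p5_step2.1).2,
      sep_sound hl (by norm_num) p5_step2.2⟩

theorem p3_small : (∀ i < 10, ∀ x ∈ p3Words.getD i [], x < 16) := by
  decide +kernel

theorem p3_card : Nat.card (headSub (gEl p3Words) 10) = 3 ^ 10 := by
  have hl : ∀ i < 10, linkOK p3Words p3Mats i = true := fun i hi => by
    interval_cases i
    exacts [p3_link0, p3_link1, p3_link2, p3_link3, p3_link4, p3_link5, p3_link6, p3_link7, p3_link8, p3_link9]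
  refine series_card (by norm_num) _ _ fun i hi => ?_
  interval_cases i
  · exact ⟨(rels_sound hl (by norm_num) p3_step0.1).1, (rels_sound hl (by norm_num) p3_step0.1).2,
      sep_sound hl (by norm_num) p3_step0.2⟩
  · exact ⟨(rels_sound hl (by norm_num) p3_step1.1).1, (rels_sound hl (by norm_num) p3_step1.1).2,
      sep_sound hl (by norm_num) p3_step1.2⟩
  · exact ⟨(rels_sound hl (by norm_num) p3_step2.1).1, (rels_sound hl (by norm_num) p3_step2.1).2,
      sep_sound hl (by norm_num) p3_step2.2⟩
  · exact ⟨(rels_sound hl (by norm_num) p3_step3.1).1, (rels_sound hl (by norm_num) p3_step3.1).2,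
      sep_sound hl (by norm_num) p3_step3.2⟩
  · exact ⟨(rels_sound hl (by norm_num) p3_step4.1).1, (rels_sound hl (by norm_num) p3_step4.1).2,
      sep_sound hl (by norm_num) p3_step4.2⟩
  · exact ⟨(rels_sound hl (by norm_num) p3_step5.1).1, (rels_sound hl (by norm_num) p3_step5.1).2,
      sep_sound hl (by norm_num) p3_step5.2⟩
  · exact ⟨(rels_sound hl (by norm_num) p3_step6.1).1, (rels_sound hl (by norm_num) p3_step6.1).2,
      sep_sound hl (by norm_num) p3_step6.2⟩
  · exact ⟨(rels_sound hl (by norm_num) p3_step7.1).1, (rels_sound hl (by norm_num) p3_step7.1).2,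
      sep_sound hl (by norm_num) p3_step7.2⟩
  · exact ⟨(rels_sound hl (by norm_num) p3_step8.1).1, (rels_sound hl (by norm_num) p3_step8.1).2,
      sep_sound hl (by norm_num) p3_step8.2⟩
  · exact ⟨(rels_sound hl (by norm_num) p3_step9.1).1, (rels_sound hl (by norm_num) p3_step9.1).2,
      sep_sound hl (by norm_num) p3_step9.2⟩

theorem p2_small : (∀ i < 15, ∀ x ∈ p2Words.getD i [], x < 16) := by
  decide +kernel

theorem p2_card : Nat.card (headSub (gEl p2Words) 15) = 2 ^ 15 := by
  have hl : ∀ i < 15, linkOK p2Words p2Mats i = true := fun i hi => by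
    interval_cases i
    exacts [p2_link0, p2_link1, p2_link2, p2_link3, p2_link4, p2_link5, p2_link6, p2_link7, p2_link8, p2_link9, p2_link10, p2_link11, p2_link12, p2_link13, p2_link14]
  refine series_card (by norm_num) _ _ fun i hi => ?_
  interval_cases i
  · exact ⟨(rels_sound hl (by norm_num) p2_step0.1).1, (rels_sound hl (by norm_num) p2_step0.1).2,
      sep_sound hl (by norm_num) p2_step0.2⟩
  · exact ⟨(rels_sound hl (by norm_num) p2_step1.1).1, (rels_sound hl (by norm_num) p2_step1.1).2,
      sep_sound hl (by norm_num) p2_step1.2⟩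
  · exact ⟨(rels_sound hl (by norm_num) p2_step2.1).1, (rels_sound hl (by norm_num) p2_step2.1).2,
      sep_sound hl (by norm_num) p2_step2.2⟩
  · exact ⟨(rels_sound hl (by norm_num) p2_step3.1).1, (rels_sound hl (by norm_num) p2_step3.1).2,
      sep_sound hl (by norm_num) p2_step3.2⟩
  · exact ⟨(rels_sound hl (by norm_num) p2_step4.1).1, (rels_sound hl (by norm_num) p2_step4.1).2,
      sep_sound hl (by norm_num) p2_step4.2⟩
  · exact ⟨(rels_sound hl (by norm_num) p2_step5.1).1, (rels_sound hl (by norm_num) p2_step5.1).2,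
      sep_sound hl (by norm_num) p2_step5.2⟩
  · exact ⟨(rels_sound hl (by norm_num) p2_step6.1).1, (rels_sound hl (by norm_num) p2_step6.1).2,
      sep_sound hl (by norm_num) p2_step6.2⟩
  · exact ⟨(rels_sound hl (by norm_num) p2_step7.1).1, (rels_sound hl (by norm_num) p2_step7.1).2,
      sep_sound hl (by norm_num) p2_step7.2⟩
  · exact ⟨(rels_sound hl (by norm_num) p2_step8.1).1, (rels_sound hl (by norm_num) p2_step8.1).2,
      sep_sound hl (by norm_num) p2_step8.2⟩
  · exact ⟨(rels_sound hl (by norm_num) p2_step9.1).1, (rels_sound hl (by norm_num) p2_step9.1).2,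
      sep_sound hl (by norm_num) p2_step9.2⟩
  · exact ⟨(rels_sound hl (by norm_num) p2_step10.1).1, (rels_sound hl (by norm_num) p2_step10.1).2,
      sep_sound hl (by norm_num) p2_step10.2⟩
  · exact ⟨(rels_sound hl (by norm_num) p2_step11.1).1, (rels_sound hl (by norm_num) p2_step11.1).2,
      sep_sound hl (by norm_num) p2_step11.2⟩
  · exact ⟨(rels_sound hl (by norm_num) p2_step12.1).1, (rels_sound hl (by norm_num) p2_step12.1).2,
      sep_sound hl (by norm_num) p2_step12.2⟩
  · exact ⟨(rels_sound hl (by norm_num) p2_step13.1).1, (rels_sound hl (by norm_num) p2_step13.1).2,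
      sep_sound hl (by norm_num) p2_step13.2⟩
  · exact ⟨(rels_sound hl (by norm_num) p2_step14.1).1, (rels_sound hl (by norm_num) p2_step14.1).2,
      sep_sound hl (by norm_num) p2_step14.2⟩

theorem gEl_range {ws : List (List ℕ)} {i : ℕ} (h : ∀ x ∈ ws.getD i [], x < 16) : gEl ws i ∈ rho.range :=
  ⟨thEl (ws.getD i []), rho_thEl h⟩

theorem head_le {ws : List (List ℕ)} {n : ℕ} (h : ∀ i < n, ∀ x ∈ ws.getD i [], x < 16) :
    headSub (gEl ws) n ≤ rho.range := by
  rw [headSub, Subgroup.closure_le]
  rintro _ ⟨i, hi, rfl⟩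
  exact gEl_range (h i hi)

theorem image_dvd : 90745943887872000 ∣ Nat.card rho.range := by
  have h2 : 2 ^ 15 ∣ Nat.card rho.range := p2_card ▸ Subgroup.card_dvd_of_le (head_le p2_small)
  have h3 : 3 ^ 10 ∣ Nat.card rho.range := p3_card ▸ Subgroup.card_dvd_of_le (head_le p3_small)
  have h5 : 5 ^ 3 ∣ Nat.card rho.range := p5_card ▸ Subgroup.card_dvd_of_le (head_le p5_small)
  have ho : ∀ i p, i < 2 → orderOf (gEl ordWords i) = p → p ∣ Nat.card rho.range := fun i p hi h => by
    rw [← h, ← Subgroup.orderOf_mk (gEl ordWords i) (gEl_range (ws := ordWords) (i := i) ?_)]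
    · exact orderOf_dvd_natCard _
    · obtain ⟨a, b⟩ := words_small
      interval_cases i
      exacts [a, b]
  have h19 := ho 0 19 (by norm_num) (ord_sound (by norm_num) (by norm_num) ord_pow0)
  have h31 := ho 1 31 (by norm_num) (ord_sound (by norm_num) (by norm_num) ord_pow1)
  have hk := kth_dvd_image
  have h : Nat.lcm (Nat.lcm (Nat.lcm (Nat.lcm (Nat.lcm 634023936 (2 ^ 15)) (3 ^ 10)) (5 ^ 3)) 19) 31 ∣
      Nat.card rho.range :=
    Nat.lcm_dvd (Nat.lcm_dvd (Nat.lcm_dvd (Nat.lcm_dvd (Nat.lcm_dvd hk h2) h3) h5) h19) h31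
  rwa [show Nat.lcm (Nat.lcm (Nat.lcm (Nat.lcm (Nat.lcm 634023936 (2 ^ 15)) (3 ^ 10)) (5 ^ 3)) 19) 31 =
    90745943887872000 by decide +kernel] at h

theorem th_facts : Finite Spor.Th ∧ Nat.card Spor.Th = 90745943887872000 ∧ Kth.index = 143127000 ∧
    Function.Injective rho := by
  obtain ⟨hi0, hi⟩ := index_Kth
  have : Finite P := card_P_le.1
  have hKf : Finite Kth := Finite.of_surjective fTh.rangeRestrict fTh.rangeRestrict_surjective
  have hK := Subgroup.card_mul_index Kth
  rw [card_Kth] at hK
  have hfin : Finite Spor.Th := Nat.finite_of_card_ne_zero (by rw [← hK]; exact Nat.mul_ne_zero (by norm_num) hi0)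
  have hr : Nat.card rho.range ≤ Nat.card Spor.Th := Nat.card_le_card_of_surjective _ rho.rangeRestrict_surjective
  have hge : 90745943887872000 ≤ Nat.card rho.range := Nat.le_of_dvd Nat.card_pos image_dvd
  have hle : Nat.card Spor.Th ≤ 90745943887872000 := by
    rw [← hK, show (90745943887872000 : ℕ) = 634023936 * 143127000 by norm_num]
    exact Nat.mul_le_mul_left _ hi
  have hcard : Nat.card Spor.Th = 90745943887872000 := by omega
  refine ⟨hfin, hcard, ?_, ?_⟩
  · rw [hcard] at hK
    omega
  · have hb := (Nat.bijective_iff_surjective_and_card rho.rangeRestrict).2 ⟨rho.rangeRestrict_surjective, by omega⟩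
    exact fun a b e => hb.1 (Subtype.ext e)

end Cfsg.Lib.ThRep
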