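import Cfsg.Agent.ThRep.Cosets
import Cfsg.Agent.ThCert.CentFix

/-!
The centraliser of an involution in the presented Thompson group has order at most 92897280.
-/

set_option autoImplicit false
set_option maxRecDepth 100000

namespace Cfsg.Lib.ThRep

open Cfsg Cfsg.Lib.ThCert

/-- The centraliser of the first generator. -/
abbrev cTh : Subgroup Spor.Th := Subgroup.centralizer ({tg 0} : Set Spor.Th)

theorem mem_cTh {g : Spor.Th} : g ∈ cTh ↔ g * tg 0 = tg 0 * g := by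
  rw [Subgroup.mem_centralizer_iff]
  exact ⟨fun h => (h _ rfl).symm, fun h x hx => by rw [Set.mem_singleton_iff.1 hx]; exact h.symm⟩

theorem fTh_mem_cTh {p : P} : fTh p ∈ cTh ↔ p ∈ cPa := by
  rw [mem_cTh, mem_cPa, ← fTh_pg (show 0 < 7 by norm_num), ← map_mul, ← map_mul]
  exact fTh_injective.eq_iff

/-- The sum of the numbers of cosets in the reached classes which fits the order. -/
theorem cent_sums : ((subSums [3 * 774144 / 36864, 48 * 774144 / 36864, 1 * 774144 / 13824, 18 * 774144 / 13824,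
    3 * 774144 / 288]).all fun t => Nat.beq (t + 1) 120 || !Nat.beq ((t + 1) % 120) 0 ||
      !Nat.beq (90745943887872000 % (774144 * (t + 1))) 0) = true := by decide +kernel

theorem orb_sizes : ((List.range 5).map fun k => (orbOf k).2.length * 774144 / covOrd (orbN k)) =
    [3 * 774144 / 36864, 48 * 774144 / 36864, 1 * 774144 / 13824, 18 * 774144 / 13824, 3 * 774144 / 288] ∧
      ∀ k < 5, covOrd (orbN k) ∣ (orbOf k).2.length * 774144 ∧ 0 < covOrd (orbN k) := by decide +kernel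

/-- The cosets in the class of an orbit. -/
noncomputable def fibK (k : ℕ) : Set (P ⧸ cosStab (orbN k)) :=
  QuotientGroup.mk '' {a : P | cj a⁻¹ ∈ orbSet k}

theorem fibK_card {k : ℕ} (hk : k < 5) :
    Nat.card (fibK k) = (orbOf k).2.length * 774144 / covOrd (orbN k) := by
  have := card_P_le.1
  obtain ⟨hn1, hn2⟩ := orb_range hk
  have hc := allMap_facts.2 ⟨orbN k, hn2⟩
  obtain ⟨hcls, hcard, hinv, -⟩ := orb_facts hk hc
  have hset : QuotientGroup.mk ⁻¹' fibK k = {a : P | cj a⁻¹ ∈ orbSet k} := by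
    ext a
    constructor
    · rintro ⟨b, hb, e⟩
      have hs := QuotientGroup.eq.1 e
      have := hinv _ hb _ hs
      show cj a⁻¹ ∈ orbSet k
      have e2 : cj a⁻¹ = (b⁻¹ * a)⁻¹ * cj b⁻¹ * (b⁻¹ * a) := by unfold cj; group
      rw [e2]
      exact this
    · exact fun ha => ⟨a, ha, rfl⟩
  have h1 : Nat.card (QuotientGroup.mk ⁻¹' fibK k : Set P) = covOrd (orbN k) * Nat.card (fibK k) := by
    rw [Nat.card_congr (QuotientGroup.preimageMkEquivSubgroupProdSet _ _), Nat.card_prod, hc]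
  obtain ⟨hinj, hrange, hca⟩ := cjP_facts
  have h2 : Nat.card {a : P | cj a⁻¹ ∈ orbSet k} = 774144 * (orbOf k).2.length := by
    have e : Nat.card {a : P | cj a⁻¹ ∈ orbSet k} =
        Nat.card ((QuotientGroup.mk ⁻¹' (cjP ⁻¹' orbSet k) : Set P)) :=
      Nat.card_congr ((Equiv.inv P).subtypeEquiv fun a => Iff.rfl)
    rw [e, Nat.card_congr (QuotientGroup.preimageMkEquivSubgroupProdSet _ _), Nat.card_prod, hca,
      ← Nat.card_image_of_injective hinj, Set.image_preimage_eq_of_subset, hcard]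
    intro y hy
    obtain ⟨h, rfl⟩ := hcls y hy
    exact ⟨(h : P ⧸ cPa), rfl⟩
  rw [hset, h2] at h1
  rw [mul_comm (orbOf k).2.length, h1, Nat.mul_div_cancel_left _ (orb_sizes.2 k hk).2]

/-- The cosets reached by the centraliser. -/
def reach0 : Set (Spor.Th ⧸ Kth) := QuotientGroup.mk '' (cTh : Set Spor.Th)

open Classical in
theorem cTh_card_cases : ∃ t ∈ subSums ((List.range 5).map fun k => (orbOf k).2.length * 774144 / covOrd (orbN k)),
    Nat.card cTh = 774144 * (t + 1) := by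
  obtain ⟨hfin, -, hidx, -⟩ := th_facts
  have := hfin
  have := card_P_le.1
  obtain ⟨hbij, hcs⟩ := allMap_facts
  obtain ⟨hinj, -, hca⟩ := cjP_facts
  let hit : ℕ → Prop := fun k => ∃ a : P, cj a⁻¹ ∈ orbSet k ∧
    ((fTh a * (vv (orbN k))⁻¹ : Spor.Th) : Spor.Th ⧸ Kth) ∈ reach0
  let piece : ℕ → Set (Spor.Th ⧸ Kth) := fun k => orbMap (orbN k) '' fibK k
  have hfull : ∀ k < 5, hit k → piece k ⊆ reach0 := by
    rintro k hk ⟨a, ha, c, hc, e⟩ q ⟨z, ⟨b, hb, rfl⟩, rfl⟩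
    obtain ⟨-, hn2⟩ := orb_range hk
    obtain ⟨-, -, -, htrans⟩ := orb_facts hk (hcs ⟨orbN k, hn2⟩)
    obtain ⟨s, hs, es⟩ := htrans _ ha _ hb
    refine ⟨fTh (b * s⁻¹ * a⁻¹) * c, cTh.mul_mem ?_ hc, ?_⟩
    · rw [fTh_mem_cTh, mem_cPa]
      unfold cj at es
      simp only [inv_inv] at es
      calc b * s⁻¹ * a⁻¹ * pg 0 = b * (s⁻¹ * (a⁻¹ * pg 0 * a) * s) * s⁻¹ * a⁻¹ := by group
        _ = b * (b⁻¹ * pg 0 * b) * s⁻¹ * a⁻¹ := by rw [← es]
        _ = pg 0 * (b * s⁻¹ * a⁻¹) := by group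
    · show ((fTh (b * s⁻¹ * a⁻¹) * c : Spor.Th) : Spor.Th ⧸ Kth) =
        ((fTh b * (vv (orbN k))⁻¹ : Spor.Th) : Spor.Th ⧸ Kth)
      have e1 : c⁻¹ * (fTh a * (vv (orbN k))⁻¹) ∈ Kth := QuotientGroup.eq.1 e
      have e2 : vv (orbN k) * fTh s * (vv (orbN k))⁻¹ ∈ Kth := hs
      refine QuotientGroup.eq.2 ?_
      rw [show (fTh (b * s⁻¹ * a⁻¹) * c)⁻¹ * (fTh b * (vv (orbN k))⁻¹) =
        c⁻¹ * (fTh a * (vv (orbN k))⁻¹) * (vv (orbN k) * fTh s * (vv (orbN k))⁻¹) by
          simp only [map_mul, map_inv]; group]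
      exact Kth.mul_mem e1 e2
  let J : Finset ℕ := (Finset.range 5).filter hit
  have hsub : reach0 = insert ((1 : Spor.Th) : Spor.Th ⧸ Kth) (⋃ k ∈ J, piece k) := by
    refine Set.Subset.antisymm ?_ ?_
    · rintro q ⟨c, hc, rfl⟩
      obtain ⟨⟨n, z⟩, hz⟩ := hbij.2 (c : Spor.Th ⧸ Kth)
      revert hz
      refine Quotient.inductionOn' z fun a hz => ?_
      have hz' : ((fTh a * (vv n.val)⁻¹ : Spor.Th) : Spor.Th ⧸ Kth) = (c : Spor.Th ⧸ Kth) := hz
      by_cases hn0 : n.val = 0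
      · refine Set.mem_insert_iff.2 (Or.inl ?_)
        rw [← hz', hn0, vv_zero, inv_one, mul_one]
        exact QuotientGroup.eq.2 (by rw [mul_one]; exact Kth.inv_mem ⟨a, rfl⟩)
      · have hk0 : (fTh a * (vv n.val)⁻¹)⁻¹ * c ∈ Kth := QuotientGroup.eq.1 hz'
        obtain ⟨k0, hk0'⟩ := hk0
        have hy : cj a⁻¹ ∈ cosStab n.val := by
          show vv n.val * fTh (cj a⁻¹) * (vv n.val)⁻¹ ∈ Kth
          have hc' := mem_cTh.1 hc
          have e3 : vv n.val * fTh (cj a⁻¹) * (vv n.val)⁻¹ = fTh (k0 * pg 0 * k0⁻¹) := by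
            unfold cj
            simp only [map_mul, map_inv, inv_inv, fTh_pg (show 0 < 7 by norm_num), hk0']
            calc vv n.val * ((fTh a)⁻¹ * tg 0 * fTh a) * (vv n.val)⁻¹
                = (fTh a * (vv n.val)⁻¹)⁻¹ * (tg 0 * c) * c⁻¹ * (fTh a * (vv n.val)⁻¹) := by group
              _ = (fTh a * (vv n.val)⁻¹)⁻¹ * (c * tg 0) * c⁻¹ * (fTh a * (vv n.val)⁻¹) := by rw [hc']
              _ = _ := by group
          rw [e3]
          exact ⟨_, rfl⟩
        obtain ⟨k, hk, hkn, hky⟩ := orb_cover (Nat.one_le_iff_ne_zero.2 hn0) n.2 (hcs n) hy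
        refine Set.mem_insert_of_mem _ ?_
        simp only [Set.mem_iUnion]
        refine ⟨k, Finset.mem_filter.2 ⟨Finset.mem_range.2 hk, a, hky, ?_⟩, ?_⟩
        · rw [hkn, hz']; exact ⟨c, hc, rfl⟩
        · refine ⟨_, ⟨a, hky, rfl⟩, ?_⟩
          show ((fTh a * (vv (orbN k))⁻¹ : Spor.Th) : Spor.Th ⧸ Kth) = _
          rw [hkn, hz']
    · refine Set.insert_subset ⟨1, cTh.one_mem, rfl⟩ ?_
      simp only [Set.iUnion_subset_iff]
      intro k hk
      obtain ⟨hk5, hh⟩ := Finset.mem_filter.1 hk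
      exact hfull k (Finset.mem_range.1 hk5) hh
  have hinjn : ∀ k < 5, Function.Injective (orbMap (orbN k)) := fun k hk z z' e => by
    have := @hbij.1 ⟨⟨orbN k, (orb_range hk).2⟩, z⟩ ⟨⟨orbN k, (orb_range hk).2⟩, z'⟩ e
    simpa using this
  have hdisj : ∀ k < 5, ∀ l < 5, ∀ q, q ∈ piece k → q ∈ piece l → k = l := by
    rintro k hk l hl _ ⟨z, hz, rfl⟩ ⟨w, hw, e⟩
    have h := @hbij.1 ⟨⟨orbN l, (orb_range hl).2⟩, w⟩ ⟨⟨orbN k, (orb_range hk).2⟩, z⟩ e
    rw [Sigma.mk.injEq, Fin.mk.injEq] at h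
    obtain ⟨a, ha, rfl⟩ := hz
    obtain ⟨b, hb, rfl⟩ := hw
    by_contra hne
    exact orb_disjoint (k := k) (l := l) hk hl hne h.1 ha hb h.2 hcs
  have hone : ((1 : Spor.Th) : Spor.Th ⧸ Kth) ∉ ⋃ k ∈ J, piece k := by
    simp only [Set.mem_iUnion, not_exists]
    rintro k hk ⟨z, -, e⟩
    have hk5 := Finset.mem_range.1 (Finset.mem_filter.1 hk).1
    have h0 : allMap ⟨⟨0, by norm_num⟩, ((1 : P) : P ⧸ cosStab 0)⟩ = ((1 : Spor.Th) : Spor.Th ⧸ Kth) := by
      show ((fTh 1 * (vv 0)⁻¹ : Spor.Th) : Spor.Th ⧸ Kth) = _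
      rw [map_one, vv_zero, inv_one, mul_one]
    have h := @hbij.1 ⟨⟨orbN k, (orb_range hk5).2⟩, z⟩ ⟨⟨0, by norm_num⟩, ((1 : P) : P ⧸ cosStab 0)⟩ (e.trans h0.symm)
    rw [Sigma.mk.injEq, Fin.mk.injEq] at h
    have := (orb_range hk5).1
    omega
  have hcard : reach0.ncard = (∑ k ∈ J, (orbOf k).2.length * 774144 / covOrd (orbN k)) + 1 := by
    have hu : (⋃ k ∈ J, piece k).ncard = ∑ k ∈ J, (piece k).ncard := by
      have h := Set.Finite.ncard_biUnion (t := (J : Set ℕ)) J.finite_toSet (s := piece) (fun _ _ => Set.toFinite _)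
        (fun k hk l hl hkl => Set.disjoint_left.2 fun q h1 h2 => hkl (hdisj k
          (Finset.mem_range.1 (Finset.mem_filter.1 hk).1) l (Finset.mem_range.1 (Finset.mem_filter.1 hl).1) q h1 h2))
      rw [finsum_mem_coe_finset] at h
      simpa using h
    rw [hsub, Set.ncard_insert_of_notMem hone (Set.toFinite _), hu]
    · refine congrArg (· + 1) (Finset.sum_congr rfl fun k hk => ?_)
      have hk5 := Finset.mem_range.1 (Finset.mem_filter.1 hk).1
      rw [Set.ncard_image_of_injective _ (hinjn k hk5), ← Nat.card_coe_set_eq, fibK_card hk5]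
  refine ⟨((List.range 5).map fun k => if hit k then (orbOf k).2.length * 774144 / covOrd (orbN k) else 0).sum, ?_, ?_⟩
  · have h := mem_subSums (fun k => decide (hit k)) (fun k => (orbOf k).2.length * 774144 / covOrd (orbN k))
      (List.range 5)
    simp only [decide_eq_true_eq] at h
    exact h
  · have hsum : ((List.range 5).map fun k => if hit k then (orbOf k).2.length * 774144 / covOrd (orbN k) else 0).sum =
        ∑ k ∈ J, (orbOf k).2.length * 774144 / covOrd (orbN k) := by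
      rw [Finset.sum_filter, ← List.sum_toFinset _ List.nodup_range, List.toFinset_range]
    rw [hsum, ← hcard, ← Nat.card_coe_set_eq]
    let ι : cTh ⧸ Kth.subgroupOf cTh → Spor.Th ⧸ Kth := Quotient.map' Subtype.val fun a b hab => by
      rw [QuotientGroup.leftRel_apply] at hab ⊢
      exact hab
    have hι : Function.Injective ι := fun q q' => by
      refine Quotient.inductionOn₂' q q' fun a b h => Quotient.sound' ?_
      rw [QuotientGroup.leftRel_apply, Subgroup.mem_subgroupOf]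
      have h' : ((a.1 : Spor.Th) : Spor.Th ⧸ Kth) = (b.1 : Spor.Th) := h
      simpa using QuotientGroup.eq.1 h'
    have hr : Set.range ι = reach0 := by
      ext q
      constructor
      · rintro ⟨x, rfl⟩
        refine Quotient.inductionOn' x fun g => ?_
        exact ⟨g.1, g.2, rfl⟩
      · rintro ⟨g, hg, rfl⟩
        exact ⟨((⟨g, hg⟩ : cTh) : cTh ⧸ Kth.subgroupOf cTh), rfl⟩
    have hk : Nat.card (Kth.subgroupOf cTh) = 774144 := by
      have e : Kth ⊓ cTh = cPa.map fTh := by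
        ext g
        rw [Subgroup.mem_inf, Subgroup.mem_map]
        constructor
        · rintro ⟨⟨a, rfl⟩, hg⟩
          exact ⟨a, fTh_mem_cTh.1 hg, rfl⟩
        · rintro ⟨a, ha, rfl⟩
          exact ⟨⟨a, rfl⟩, fTh_mem_cTh.2 ha⟩
      rw [← hca, ← Subgroup.card_map_of_injective (f := fTh) (K := cPa) fTh_injective, ← e,
        ← Subgroup.inf_subgroupOf_right Kth cTh]
      exact Nat.card_congr (Subgroup.subgroupOfEquivOfLe (inf_le_right : Kth ⊓ cTh ≤ cTh)).toEquiv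
    rw [← hr, Nat.card_range_of_injective hι, Subgroup.card_eq_card_quotient_mul_card_subgroup (Kth.subgroupOf cTh),
      hk, mul_comm]
where
  orb_disjoint {k l : ℕ} (hk : k < 5) (hl : l < 5) (hne : k ≠ l) (hn : orbN l = orbN k) {a b : P}
      (ha : cj a⁻¹ ∈ orbSet k) (hb : cj b⁻¹ ∈ orbSet l)
      (he : HEq ((b : P) : P ⧸ cosStab (orbN l)) ((a : P) : P ⧸ cosStab (orbN k)))
      (hcs : ∀ n : Fin 11, Nat.card (cosStab n.val) = covOrd n.val) : False := by
    obtain ⟨-, hn2⟩ := orb_range hk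
    obtain ⟨-, -, hinv, -⟩ := orb_facts hk (hcs ⟨orbN k, hn2⟩)
    have key : ∀ n m : ℕ, n = m → HEq ((b : P) : P ⧸ cosStab n) ((a : P) : P ⧸ cosStab m) →
        a⁻¹ * b ∈ cosStab m := by
      rintro n _ rfl h
      exact QuotientGroup.eq.1 (eq_of_heq h).symm
    have hs := key _ _ hn he
    have e2 : cj b⁻¹ = (a⁻¹ * b)⁻¹ * cj a⁻¹ * (a⁻¹ * b) := by unfold cj; group
    have h2 := hinv _ ha _ hs
    rw [← e2] at h2
    obtain ⟨e, he1, ee⟩ := h2
    obtain ⟨f, hf1, ef⟩ := hb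
    have m1 : e.1 < 819 ∧ f.1 < 819 := ⟨mem_lt k hk e he1, mem_lt l hl f hf1⟩
    exact lists_disjoint k (List.mem_range.2 hk) l (List.mem_range.2 hl) hn hne e he1 f hf1
      (clsEl_inj m1.1 m1.2 (ee.symm.trans ef))
  mem_lt : ∀ k < 5, ∀ e ∈ (orbOf k).2, e.1 < 819 := by decide +kernel
  lists_disjoint : ∀ k ∈ List.range 5, ∀ l ∈ List.range 5, orbN l = orbN k → k ≠ l → ∀ e ∈ (orbOf k).2, ∀ f ∈ (orbOf l).2, e.1 ≠ f.1 := by
    decide +kernel

theorem cTh_card_dvd (h : 120 * 774144 ∣ Nat.card cTh) : Nat.card cTh = 92897280 := by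
  obtain ⟨hfin, hcard, -, -⟩ := th_facts
  have := hfin
  obtain ⟨t, ht, e⟩ := cTh_card_cases
  rw [orb_sizes.1] at ht
  have hok := List.all_eq_true.1 cent_sums t ht
  simp only [Bool.or_eq_true, Bool.not_eq_true'] at hok
  rcases hok with (h1 | h1) | h1
  · rw [e, Nat.eq_of_beq_eq_true h1]
  · rw [e, mul_comm 120] at h
    exact absurd (Nat.mod_eq_zero_of_dvd (Nat.dvd_of_mul_dvd_mul_left (by norm_num) h)) (Nat.ne_of_beq_eq_false h1)
  · have hd := Subgroup.card_subgroup_dvd_card cTh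
    rw [hcard, e] at hd
    exact absurd (Nat.mod_eq_zero_of_dvd hd) (Nat.ne_of_beq_eq_false h1)

end Cfsg.Lib.ThRep
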