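import Cfsg.Agent.ThRep.Series
import Cfsg.Agent.ThRep.Data.CentData
import Cfsg.Agent.ThRep.Data.CentMat

/-!
Checks for the centraliser of an involution in the Thompson group.
-/

set_option autoImplicit false
set_option maxRecDepth 100000
set_option exponentiation.threshold 3000
set_option Elab.async false

namespace Cfsg.Lib.ThRep

/-- The letters of the centraliser. -/
def cLets : List ℕ := [0, 4, 6, 8, 10, 12, 14]

/-- The negative of a vector. -/
noncomputable def negV (v : ℕ) : ℕ := redAll (lowAll 1) (Nat.mul 2 v)

/-- A line with a sign. -/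
noncomputable def lineAt (t : ℕ) : ℕ :=
  bif Nat.beq (Nat.mod t 2) 0 then cLines.getD (Nat.div t 2) 0 else negV (cLines.getD (Nat.div t 2) 0)

/-- A digit in base sixteen. -/
def dig16 (x k : ℕ) : ℕ := Nat.mod (Nat.shiftRight x (Nat.mul 4 k)) 16

/-- The place of a value in a list. -/
def posOf (v : ℕ) : List ℕ → ℕ
  | [] => 0
  | a :: l => bif Nat.beq a v then 0 else Nat.add (posOf v l) 1

/-- The conjugate of an encoded permutation by a listed one. -/
def cjN (f : List ℕ) (x : ℕ) : ℕ :=
  (List.range 9).foldr (fun k acc => Nat.add (f.getD (dig16 x (posOf k f)) 0) (Nat.mul 16 acc)) 0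

/-- The conjugate of an encoded permutation by the inverse of a listed one. -/
def cjI (f : List ℕ) (x : ℕ) : ℕ :=
  (List.range 9).foldr (fun k acc => Nat.add (posOf (dig16 x (f.getD k 0)) f) (Nat.mul 16 acc)) 0

/-- The lines are moved as listed. -/
noncomputable def imgOK (g : ℕ) : Bool :=
  (List.range 120).all fun i =>
    let t := (cImg.getD g []).getD i 0
    Nat.blt t 240 && Nat.beq (prodG 1 (cLines.getD i 0) (rowsOf (cLets.getD g 0))) (lineAt t)

/-- The product of listed permutations, the left one first. -/
def mulP (a b : List ℕ) : List ℕ := a.map fun v => b.getD v 0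

/-- The listed identity. -/
def idP : List ℕ := [0, 1, 2, 3, 4, 5, 6, 7, 8]

/-- A product of stabilising generators. -/
def stabVal : List ℕ → List ℕ
  | [] => idP
  | k :: w => mulP (cStab.getD k idP) (stabVal w)

/-- The equality of lists. -/
def eqL : List ℕ → List ℕ → Bool
  | [], [] => true
  | a :: l, b :: m => Nat.beq a b && eqL l m
  | _, _ => false

/-- Two listed permutations are inverse. -/
def invPOK (a b : List ℕ) : Bool :=
  Nat.beq a.length 9 && Nat.beq b.length 9 && (a.all fun v => Nat.blt v 9) && (b.all fun v => Nat.blt v 9) &&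
    eqL (mulP a b) idP && eqL (mulP b a) idP

/-- The permutations at the lines. -/
def cosetOK (g : ℕ) : Bool :=
  (List.range 120).all fun i =>
    let j := Nat.div ((cImg.getD g []).getD i 0) 2
    let w := (cStabWords.getD g []).getD i []
    (w.all fun k => Nat.blt k cStab.length) &&
      eqL (mulP (mulP (cReps.getD i idP) (cPerm.getD g idP)) (cRepInv.getD j idP)) (stabVal w)

theorem cq_link0 : linkOK cqWords cqMats 0 = true := by decide +kernel

theorem cq_step0 : relsOK cqMats 2 0 (cqPow.getD 0 []) (cqConj.getD 0 []) = true ∧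
    sepOK cqMats 0 (cqOrbs.getD 0 []) (cqLinks.getD 0 []) = true := by
  decide +kernel

theorem cq_link1 : linkOK cqWords cqMats 1 = true := by decide +kernel

theorem cq_step1 : relsOK cqMats 2 1 (cqPow.getD 1 []) (cqConj.getD 1 []) = true ∧
    sepOK cqMats 1 (cqOrbs.getD 1 []) (cqLinks.getD 1 []) = true := by
  decide +kernel

theorem cq_link2 : linkOK cqWords cqMats 2 = true := by decide +kernel

theorem cq_step2 : relsOK cqMats 2 2 (cqPow.getD 2 []) (cqConj.getD 2 []) = true ∧
    sepOK cqMats 2 (cqOrbs.getD 2 []) (cqLinks.getD 2 []) = true := by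
  decide +kernel

theorem cq_link3 : linkOK cqWords cqMats 3 = true := by decide +kernel

theorem cq_step3 : relsOK cqMats 2 3 (cqPow.getD 3 []) (cqConj.getD 3 []) = true ∧
    sepOK cqMats 3 (cqOrbs.getD 3 []) (cqLinks.getD 3 []) = true := by
  decide +kernel

theorem cq_link4 : linkOK cqWords cqMats 4 = true := by decide +kernel

theorem cq_step4 : relsOK cqMats 2 4 (cqPow.getD 4 []) (cqConj.getD 4 []) = true ∧
    sepOK cqMats 4 (cqOrbs.getD 4 []) (cqLinks.getD 4 []) = true := by
  decide +kernel

theorem cq_link5 : linkOK cqWords cqMats 5 = true := by decide +kernel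

theorem cq_step5 : relsOK cqMats 2 5 (cqPow.getD 5 []) (cqConj.getD 5 []) = true ∧
    sepOK cqMats 5 (cqOrbs.getD 5 []) (cqLinks.getD 5 []) = true := by
  decide +kernel

theorem cq_link6 : linkOK cqWords cqMats 6 = true := by decide +kernel

theorem cq_step6 : relsOK cqMats 2 6 (cqPow.getD 6 []) (cqConj.getD 6 []) = true ∧
    sepOK cqMats 6 (cqOrbs.getD 6 []) (cqLinks.getD 6 []) = true := by
  decide +kernel

theorem cq_link7 : linkOK cqWords cqMats 7 = true := by decide +kernel

theorem cq_step7 : relsOK cqMats 2 7 (cqPow.getD 7 []) (cqConj.getD 7 []) = true ∧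
    sepOK cqMats 7 (cqOrbs.getD 7 []) (cqLinks.getD 7 []) = true := by
  decide +kernel

theorem cq_link8 : linkOK cqWords cqMats 8 = true := by decide +kernel

theorem cq_step8 : relsOK cqMats 2 8 (cqPow.getD 8 []) (cqConj.getD 8 []) = true ∧
    sepOK cqMats 8 (cqOrbs.getD 8 []) (cqLinks.getD 8 []) = true := by
  decide +kernel

theorem lines_red : (cLines.all (redOK 1)) = true ∧ cLines.length = 120 := by decide +kernel

theorem img_chk : (List.range 7).all imgOK = true := by decide +kernel

theorem lines_apart : ((List.range 120).all fun i => (List.range 120).all fun j => Nat.beq i j ||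
    (!Nat.beq (cLines.getD i 0) (cLines.getD j 0) && !Nat.beq (cLines.getD i 0) (negV (cLines.getD j 0)))) = true := by
  decide +kernel

theorem perm_chk : ((List.range 7).all fun g => invPOK (cPerm.getD g idP) (cPermInv.getD g idP)) = true ∧
    ((List.range 120).all fun i => invPOK (cReps.getD i idP) (cRepInv.getD i idP)) = true ∧
    ((List.range cStab.length).all fun k => invPOK (cStab.getD k idP) (cStabInv.getD k idP)) = true ∧
    eqL (cReps.getD 0 idP) idP = true := by decide +kernel

theorem coset_chk : (List.range 7).all cosetOK = true := by decide +kernel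

theorem obj0_chk : ((List.range cStab.length).all fun k => cObj0.all fun x =>
      cObj0.any (Nat.beq (cjN (cStab.getD k idP) x)) && cObj0.any (Nat.beq (cjI (cStab.getD k idP) x))) = true ∧
    ((List.range 7).any fun g => cObj0.any fun x => !cObj0.any (Nat.beq (cjN (cPerm.getD g idP) x))) = true := by
  decide +kernel

end Cfsg.Lib.ThRep
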