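import Cfsg.Agent.ThRep.CentPerm
import Cfsg.Agent.ThRep.CentBound

/-!
The centraliser of an involution as a group of matrices paired with permutations of nine letters.
-/

set_option autoImplicit false
set_option maxRecDepth 100000
set_option exponentiation.threshold 3000

namespace Cfsg.Lib.ThRep

open Equiv Cfsg Cfsg.Lib.ThCert

attribute [local irreducible] mm3 prodG wmat one248 gM redOK relsOK sepOK linkOK letGL redAll

/-- A line as a row. -/
def lineM (i : ℕ) : Matrix (Fin 1) (Fin 248) (ZMod 3) := toMN 1 (cLines.getD i 0)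

/-- A signed line of an image. -/
def Moves (g : GL (Fin 248) (ZMod 3)) (p : Perm (Fin 9)) : Prop :=
  ∀ i < 120, ∃ j < 120, (lineM i * g.val = lineM j ∨ lineM i * g.val = -lineM j) ∧
    prep i * p * (prep j)⁻¹ ∈ stab0

theorem line_red {i : ℕ} (hi : i < 120) : RedN (248 * 1) (cLines.getD i 0) := by
  refine redOK_sound (List.all_eq_true.1 lines_red.1 _ ?_)
  rw [List.getD_eq_getElem _ _ (lines_red.2.symm ▸ hi)]
  exact List.getElem_mem _

theorem negV_spec {v : ℕ} (h : RedN (248 * 1) v) :
    RedN (248 * 1) (negV v) ∧ toMN 1 (negV v) = -toMN 1 v := by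
  have hb : ∀ q < 248 * 1, 2 * fld v q < 1024 := fun q hq => by have := h.2 q hq; omega
  have e : negV v = ofF (fun q => 2 * fld v q % 3) (248 * 1) := by
    show redAll (lowAll 1) (2 * v) = _
    conv_lhs => rw [← ofF_fld_of_lt h.1, ofF_mul]
    exact redAll_eq hb (lowAll_eq 1)
  have hs : ∀ q < 248 * 1, 2 * fld v q % 3 < 1024 := fun q _ => lt_trans (Nat.mod_lt _ (by norm_num)) (by norm_num)
  refine ⟨⟨e ▸ ofF_lt hs, fun q hq => by rw [e, fld_ofF hs hq]; omega⟩, ?_⟩
  funext j i
  show ((fld (negV v) (248 * j.val + i.val) : ℕ) : ZMod 3) = -((fld v (248 * j.val + i.val) : ℕ) : ZMod 3)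
  rw [e, fld_ofF hs (by have := i.isLt; have := j.isLt; omega), ZMod.natCast_mod, Nat.cast_mul]
  generalize ((fld v (248 * j.val + i.val) : ℕ) : ZMod 3) = x
  revert x
  decide

theorem line_apart {i j : ℕ} (hi : i < 120) (hj : j < 120) (hne : i ≠ j) :
    lineM i ≠ lineM j ∧ lineM i ≠ -lineM j := by
  have h := List.all_eq_true.1 (List.all_eq_true.1 lines_apart i (List.mem_range.2 hi)) j (List.mem_range.2 hj)
  simp only [Bool.or_eq_true, Bool.and_eq_true, Bool.not_eq_true'] at h
  rcases h with h | ⟨h1, h2⟩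
  · exact absurd (Nat.eq_of_beq_eq_true h) hne
  · refine ⟨fun e => Nat.ne_of_beq_eq_false h1 (toMN_inj (line_red hi) (line_red hj) e), fun e => ?_⟩
    obtain ⟨r, r'⟩ := negV_spec (line_red hj)
    exact Nat.ne_of_beq_eq_false h2 (toMN_inj (line_red hi) r (e.trans r'.symm))

theorem Moves.one : Moves 1 1 := fun i hi =>
  ⟨i, hi, Or.inl (by rw [Units.val_one, Matrix.mul_one]), by rw [mul_one, mul_inv_cancel]; exact stab0.one_mem⟩

theorem Moves.mul {g h : GL (Fin 248) (ZMod 3)} {p q : Perm (Fin 9)} (h1 : Moves g p) (h2 : Moves h q) :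
    Moves (g * h) (p * q) := by
  intro i hi
  obtain ⟨j, hj, e1, m1⟩ := h1 i hi
  obtain ⟨l, hl, e2, m2⟩ := h2 j hj
  refine ⟨l, hl, ?_, ?_⟩
  · rw [Units.val_mul, ← Matrix.mul_assoc]
    rcases e1 with e1 | e1 <;> rcases e2 with e2 | e2 <;> simp [e1, e2]
  · rw [show prep i * (p * q) * (prep l)⁻¹ = prep i * p * (prep j)⁻¹ * (prep j * q * (prep l)⁻¹) by group]
    exact stab0.mul_mem m1 m2

theorem cLets_lt : ∀ g < 7, cLets.getD g 0 < 16 ∧ invLet (cLets.getD g 0) < 16 := by decide +kernel

theorem pgen_even : ∀ g < 7, Perm.sign (pgen g) = 1 := by decide +kernel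

/-- A generating pair. -/
def cPair (g : ℕ) : GL (Fin 248) (ZMod 3) × alternatingGroup (Fin 9) :=
  (letGL (cLets.getD g 0), if h : g < 7 then ⟨pgen g, Perm.mem_alternatingGroup.2 (pgen_even g h)⟩ else 1)

theorem moves_gen {g : ℕ} (hg : g < 7) : Moves (cPair g).1 ((cPair g).2 : Perm (Fin 9)) := by
  intro i hi
  have h := List.all_eq_true.1 (List.all_eq_true.1 img_chk g (List.mem_range.2 hg)) i (List.mem_range.2 hi)
  simp only [Bool.and_eq_true, Nat.blt_eq] at h
  have hx := (cLets_lt g hg).1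
  obtain ⟨l1, r1⟩ := rowsOf_ok hx
  obtain ⟨-, e1⟩ := toMN_prod (n := 1) l1 (line_red hi) r1
  rw [← letGL_val hx] at e1
  refine ⟨(cImg.getD g []).getD i 0 / 2, by omega, ?_, ?_⟩
  · show lineM i * _ = _ ∨ _
    have e2 := Nat.eq_of_beq_eq_true h.2
    rw [e2] at e1
    unfold lineAt at e1
    rw [show Nat.div ((cImg.getD g []).getD i 0) 2 = (cImg.getD g []).getD i 0 / 2 from rfl,
      show Nat.mod ((cImg.getD g []).getD i 0) 2 = (cImg.getD g []).getD i 0 % 2 from rfl] at e1
    cases hb : Nat.beq ((cImg.getD g []).getD i 0 % 2) 0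
    · rw [hb, cond_false, (negV_spec (line_red (by omega))).2] at e1
      exact Or.inr e1.symm
    · rw [hb, cond_true] at e1
      exact Or.inl e1.symm
  · have := coset_step hg hi h.1
    simpa [cPair, hg] using this

/-- The generated group of pairs. -/
def cGamma : Subgroup (GL (Fin 248) (ZMod 3) × alternatingGroup (Fin 9)) :=
  Subgroup.closure (cPair '' Set.Iio 7)

theorem gamma_moves {x : GL (Fin 248) (ZMod 3) × alternatingGroup (Fin 9)} (hx : x ∈ cGamma) :
    Moves x.1 (x.2 : Perm (Fin 9)) := by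
  induction hx using Subgroup.closure_induction with
  | mem y hy => obtain ⟨g, hg, rfl⟩ := hy; exact moves_gen hg
  | one => exact Moves.one
  | mul a b _ _ iha ihb => exact iha.mul ihb
  | inv a _ iha =>
    have hpow : ∀ m : ℕ, Moves (a ^ m).1 ((a ^ m).2 : Perm (Fin 9)) := by
      intro m
      induction m with
      | zero => exact Moves.one
      | succ m ih => rw [pow_succ]; exact ih.mul iha
    have e : a⁻¹ = a ^ (orderOf a - 1) := by
      refine inv_eq_of_mul_eq_one_right ?_
      rw [← pow_succ', show orderOf a - 1 + 1 = orderOf a by have := orderOf_pos a; omega, pow_orderOf_eq_one]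
    rw [e]
    exact hpow _

/-- The permutations paired with the identity. -/
def pairKer : Subgroup (alternatingGroup (Fin 9)) := cGamma.comap (MonoidHom.inr _ _)

/-- The listed cycle. -/
def cycList (a b c : Fin 9) : List ℕ :=
  (List.range 9).map fun k => ((Equiv.swap b c * Equiv.swap a b) (Fin.ofNat 9 k)).val

theorem cycles_chk : ∀ a b c : Fin 9, a ≠ b → a ≠ c → b ≠ c →
    (cCycles.any fun e => eqL e.1 (cycList a b c)) = true := by decide +kernel

/-- The listed permutation of a word in the generators. -/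
def wordPerm : List ℕ → List ℕ
  | [] => idP
  | g :: w => mulP (cPerm.getD g idP) (wordPerm w)

theorem cycle_words : (cCycles.all fun e => (e.2.all fun g => Nat.blt g 7) && eqL (wordPerm e.2) e.1) = true := by
  decide +kernel

theorem wordPerm_mem : ∀ {w : List ℕ}, (∀ g ∈ w, g < 7) →
    ∃ s ∈ cGamma.map (MonoidHom.snd (GL (Fin 248) (ZMod 3)) (alternatingGroup (Fin 9))),
      IsP (wordPerm w) (s : Perm (Fin 9))
  | [], _ => ⟨1, one_mem _, IsP.one⟩
  | g :: w, h => by
    have hg := h g List.mem_cons_self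
    obtain ⟨s, hs, hP⟩ := wordPerm_mem fun j hj => h j (List.mem_cons_of_mem g hj)
    refine ⟨(cPair g).2 * s, Subgroup.mul_mem _ ⟨cPair g, Subgroup.subset_closure ⟨g, hg, rfl⟩, rfl⟩ hs, ?_⟩
    have h1 : ((cPair g).2 : Perm (Fin 9)) = pgen g := by simp [cPair, hg]
    rw [Subgroup.coe_mul, h1]
    exact (pgen_isP hg).1.mul hP

theorem snd_surj : cGamma.map (MonoidHom.snd (GL (Fin 248) (ZMod 3)) (alternatingGroup (Fin 9))) = ⊤ := by
  rw [eq_top_iff, ← alternatingGroup.closure_isThreeCycles_eq_top, Subgroup.closure_le]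
  intro σ hσ
  have h3 : Perm.IsThreeCycle (σ : Perm (Fin 9)) := hσ
  obtain ⟨a, ha⟩ := h3.isCycle.nonempty_support
  have e := h3.eq_swap_mul_swap_iff_mem_support.2 ha
  have hn := h3.nodup_iff_mem_support.2 ha
  simp only [List.nodup_cons, List.mem_cons, List.not_mem_nil, or_false, not_or] at hn
  set b := (σ : Perm (Fin 9)) a
  set c := (σ : Perm (Fin 9)) b
  have hc := cycles_chk a b c hn.1.1 hn.1.2 hn.2.1
  rw [List.any_eq_true] at hc
  obtain ⟨ent, he, hl⟩ := hc
  have hw := List.all_eq_true.1 cycle_words ent he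
  simp only [Bool.and_eq_true, List.all_eq_true, Nat.blt_eq] at hw
  obtain ⟨s, hs, hP⟩ := wordPerm_mem hw.1
  rw [eqL_eq hw.2, eqL_eq hl] at hP
  have hσ' : IsP (cycList a b c) (σ : Perm (Fin 9)) := by
    refine ⟨by simp [cycList], fun k => ?_⟩
    rw [e, mul_inv_rev, Equiv.swap_inv, Equiv.swap_inv, cycList,
      List.getD_eq_getElem _ _ (by simp), List.getElem_map, List.getElem_range, Fin.ofNat_val_eq_self]
  rw [Subtype.ext (hσ'.unique hP)]
  exact hs

theorem pairKer_bot : pairKer = ⊥ := by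
  have hn : pairKer.Normal := ⟨fun p hp x => by
    have hx : x ∈ cGamma.map (MonoidHom.snd (GL (Fin 248) (ZMod 3)) (alternatingGroup (Fin 9))) := by
      rw [snd_surj]; exact Subgroup.mem_top x
    obtain ⟨⟨g, y⟩, hy, e⟩ := hx
    have e' : y = x := e
    subst e'
    show (1, y * p * y⁻¹) ∈ cGamma
    have := cGamma.mul_mem (cGamma.mul_mem hy hp) (cGamma.inv_mem hy)
    simpa using this⟩
  have := alternatingGroup.isSimpleGroup (α := Fin 9) (by simp)
  rcases this.eq_bot_or_eq_top_of_normal pairKer hn with h | h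
  · exact h
  · exfalso
    obtain ⟨g, hg, hgs⟩ := exists_outside
    have hp : (cPair g).2 ∈ pairKer := h ▸ Subgroup.mem_top _
    obtain ⟨j, hj, e, hm⟩ := gamma_moves (show ((1 : GL (Fin 248) (ZMod 3)), (cPair g).2) ∈ cGamma from hp) 0
      (by norm_num)
    have hj0 : j = 0 := by
      by_contra hne
      obtain ⟨h1, h2⟩ := line_apart (by norm_num) hj (Ne.symm hne)
      rw [Units.val_one, Matrix.mul_one] at e
      exact e.elim h1 h2
    subst hj0
    rw [prep_zero] at hm
    exact hgs (by simpa [cPair, hg] using hm)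

/-- The group of the matrices. -/
def cH : Subgroup (GL (Fin 248) (ZMod 3)) := Subgroup.closure ((fun g => letGL (cLets.getD g 0)) '' Set.Iio 7)

theorem fst_gamma : cGamma.map (MonoidHom.fst (GL (Fin 248) (ZMod 3)) (alternatingGroup (Fin 9))) = cH := by
  rw [cGamma, MonoidHom.map_closure, cH, Set.image_image]
  rfl

theorem fst_inj : Function.Injective fun x : cGamma => (x : GL (Fin 248) (ZMod 3) × alternatingGroup (Fin 9)).1 := by
  intro x y h
  have hm : (x⁻¹ * y : cGamma).1.2 ∈ pairKer := by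
    show ((1 : GL (Fin 248) (ZMod 3)), (x⁻¹ * y : cGamma).1.2) ∈ cGamma
    have e : ((x⁻¹ * y : cGamma) : GL (Fin 248) (ZMod 3) × alternatingGroup (Fin 9)).1 = 1 := by
      simp only [Subgroup.coe_mul, Subgroup.coe_inv, Prod.fst_mul, Prod.fst_inv]
      rw [show (x : GL (Fin 248) (ZMod 3) × alternatingGroup (Fin 9)).1 = y.1.1 from h, inv_mul_cancel]
    rw [← e]
    exact (x⁻¹ * y).2
  rw [pairKer_bot, Subgroup.mem_bot] at hm
  refine Subtype.ext (Prod.ext h ?_)
  simp only [Subgroup.coe_mul, Subgroup.coe_inv, Prod.snd_mul, Prod.snd_inv] at hm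
  exact inv_mul_eq_one.1 hm

/-- The projection onto the permutations. -/
def gSnd : cGamma →* alternatingGroup (Fin 9) :=
  (MonoidHom.snd (GL (Fin 248) (ZMod 3)) (alternatingGroup (Fin 9))).comp cGamma.subtype

theorem gSnd_surj : Function.Surjective gSnd := fun x => by
  have hx : x ∈ cGamma.map (MonoidHom.snd (GL (Fin 248) (ZMod 3)) (alternatingGroup (Fin 9))) := by
    rw [snd_surj]; exact Subgroup.mem_top x
  obtain ⟨y, hy, e⟩ := hx
  exact ⟨⟨y, hy⟩, e⟩

theorem cq_link_all : ∀ i < 9, linkOK cqWords cqMats i = true := fun i hi => by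
  interval_cases i
  exacts [cq_link0, cq_link1, cq_link2, cq_link3, cq_link4, cq_link5, cq_link6, cq_link7, cq_link8]

/-- The series generates this group. -/
abbrev cqSub : Subgroup (GL (Fin 248) (ZMod 3)) := headSub (gEl cqWords) 9

theorem cq_card : Nat.card cqSub = 2 ^ 9 := by
  refine series_card (by norm_num) _ _ fun i hi => ?_
  interval_cases i
  · exact ⟨(rels_sound cq_link_all (by norm_num) cq_step0.1).1, (rels_sound cq_link_all (by norm_num) cq_step0.1).2,
      sep_sound cq_link_all (by norm_num) cq_step0.2⟩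
  · exact ⟨(rels_sound cq_link_all (by norm_num) cq_step1.1).1, (rels_sound cq_link_all (by norm_num) cq_step1.1).2,
      sep_sound cq_link_all (by norm_num) cq_step1.2⟩
  · exact ⟨(rels_sound cq_link_all (by norm_num) cq_step2.1).1, (rels_sound cq_link_all (by norm_num) cq_step2.1).2,
      sep_sound cq_link_all (by norm_num) cq_step2.2⟩
  · exact ⟨(rels_sound cq_link_all (by norm_num) cq_step3.1).1, (rels_sound cq_link_all (by norm_num) cq_step3.1).2,
      sep_sound cq_link_all (by norm_num) cq_step3.2⟩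
  · exact ⟨(rels_sound cq_link_all (by norm_num) cq_step4.1).1, (rels_sound cq_link_all (by norm_num) cq_step4.1).2,
      sep_sound cq_link_all (by norm_num) cq_step4.2⟩
  · exact ⟨(rels_sound cq_link_all (by norm_num) cq_step5.1).1, (rels_sound cq_link_all (by norm_num) cq_step5.1).2,
      sep_sound cq_link_all (by norm_num) cq_step5.2⟩
  · exact ⟨(rels_sound cq_link_all (by norm_num) cq_step6.1).1, (rels_sound cq_link_all (by norm_num) cq_step6.1).2,
      sep_sound cq_link_all (by norm_num) cq_step6.2⟩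
  · exact ⟨(rels_sound cq_link_all (by norm_num) cq_step7.1).1, (rels_sound cq_link_all (by norm_num) cq_step7.1).2,
      sep_sound cq_link_all (by norm_num) cq_step7.2⟩
  · exact ⟨(rels_sound cq_link_all (by norm_num) cq_step8.1).1, (rels_sound cq_link_all (by norm_num) cq_step8.1).2,
      sep_sound cq_link_all (by norm_num) cq_step8.2⟩

/-- The listed permutation of a letter. -/
def letPerm (x : ℕ) : List ℕ :=
  bif Nat.beq (Nat.mod x 2) 0 then cPerm.getD (posOf x cLets) idP
  else cPermInv.getD (posOf (Nat.sub x 1) cLets) idP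

/-- The listed permutation of a word in letters. -/
def letWord : List ℕ → List ℕ
  | [] => idP
  | x :: w => mulP (letPerm x) (letWord w)

theorem letters_chk : ([0, 4, 5, 6, 7, 8, 9, 10, 11, 12, 13, 14, 15].all fun x =>
    Nat.blt (posOf (x - x % 2) cLets) 7 && Nat.beq (cLets.getD (posOf (x - x % 2) cLets) 99) (x - x % 2)) = true := by
  decide +kernel

theorem cq_words : (cqWords.all fun w => (w.all fun x => [0, 4, 5, 6, 7, 8, 9, 10, 11, 12, 13, 14, 15].contains x) &&
    eqL (letWord w) idP) = true ∧ cqWords.length = 9 := by decide +kernel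

theorem letter_mem {x : ℕ} (hx : x ∈ [0, 4, 5, 6, 7, 8, 9, 10, 11, 12, 13, 14, 15]) :
    ∃ p : alternatingGroup (Fin 9), (letGL x, p) ∈ cGamma ∧ IsP (letPerm x) (p : Perm (Fin 9)) := by
  have h := List.all_eq_true.1 letters_chk x hx
  simp only [Bool.and_eq_true, Nat.blt_eq] at h
  obtain ⟨hk, he⟩ := h
  have he' := Nat.eq_of_beq_eq_true he
  set k := posOf (x - x % 2) cLets with hkdef
  have hlen : k < cLets.length := hk
  rw [List.getD_eq_getElem _ _ hlen] at he'
  have hmem : cPair k ∈ cGamma := Subgroup.subset_closure ⟨k, hk, rfl⟩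
  have h1 : ((cPair k).2 : Perm (Fin 9)) = pgen k := by simp [cPair, hk]
  have h2 : (cPair k).1 = letGL (x - x % 2) := by
    show letGL (cLets.getD k 0) = _
    rw [List.getD_eq_getElem _ _ hlen, he']
  have hlt : x < 16 := by simp at hx; omega
  rcases Nat.mod_two_eq_zero_or_one x with h0 | h0
  · refine ⟨(cPair k).2, by rw [show x = x - x % 2 by omega, ← h2]; exact hmem, ?_⟩
    have e : letPerm x = cPerm.getD k idP := by
      rw [letPerm, show Nat.mod x 2 = x % 2 from rfl, h0, show Nat.beq 0 0 = true from rfl, cond_true, hkdef,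
        show x - x % 2 = x by omega]
    rw [e, h1]
    exact (pgen_isP hk).1
  · refine ⟨((cPair k).2)⁻¹, ?_, ?_⟩
    · have e : letGL x = ((cPair k).1)⁻¹ := by
        rw [h2, letGL_inv (by omega), invLet, if_pos (by omega), show x - x % 2 + 1 = x by omega]
      rw [e]
      exact cGamma.inv_mem hmem
    · have e : letPerm x = cPermInv.getD k idP := by
        rw [letPerm, show Nat.mod x 2 = x % 2 from rfl, h0, show Nat.beq 1 0 = false from rfl, cond_false, hkdef,
          show Nat.sub x 1 = x - x % 2 by rw [h0]; rfl]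
      rw [e, Subgroup.coe_inv, h1]
      exact (pgen_isP hk).2

theorem cq_in_ker {i : ℕ} (hi : i < 9) : (gEl cqWords i, (1 : alternatingGroup (Fin 9))) ∈ cGamma := by
  obtain ⟨h, hlen⟩ := cq_words
  have hm : cqWords.getD i [] ∈ cqWords := by
    rw [List.getD_eq_getElem _ _ (hlen.symm ▸ hi)]; exact List.getElem_mem _
  have h' := List.all_eq_true.1 h _ hm
  simp only [Bool.and_eq_true, List.all_eq_true, List.contains_iff_mem] at h'
  have key : ∀ w : List ℕ, (∀ x ∈ w, x ∈ [0, 4, 5, 6, 7, 8, 9, 10, 11, 12, 13, 14, 15]) →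
      ∃ p : alternatingGroup (Fin 9), ((w.map letGL).prod, p) ∈ cGamma ∧ IsP (letWord w) (p : Perm (Fin 9)) := by
    intro w
    induction w with
    | nil => exact fun _ => ⟨1, cGamma.one_mem, IsP.one⟩
    | cons x w ih =>
      intro hw
      obtain ⟨p, hp, hpP⟩ := letter_mem (hw x List.mem_cons_self)
      obtain ⟨q, hq, hqP⟩ := ih fun y hy => hw y (List.mem_cons_of_mem x hy)
      refine ⟨p * q, ?_, hpP.mul hqP⟩
      have e := cGamma.mul_mem hp hq
      rw [Prod.mk_mul_mk] at e
      rw [List.map_cons, List.prod_cons]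
      exact e
  obtain ⟨p, hp, hpP⟩ := key _ h'.1
  rw [eqL_eq h'.2] at hpP
  have : p = 1 := Subtype.ext (hpP.unique IsP.one)
  exact this ▸ hp

theorem ker_dvd {G A : Type*} [Group G] [Group A] (Γ : Subgroup (G × A)) (S : Subgroup G)
    (h : ∀ x ∈ S, (x, (1 : A)) ∈ Γ) : Nat.card S ∣ Nat.card ((MonoidHom.snd G A).comp Γ.subtype).ker := by
  let j : S →* Γ :=
    { toFun := fun x => ⟨(x.1, 1), h x.1 x.2⟩
      map_one' := rfl
      map_mul' := fun a b => Subtype.ext (Prod.ext rfl (mul_one _).symm) }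
  have hj : Function.Injective j := fun a b e => Subtype.ext (congrArg (fun z : Γ => z.1.1) e)
  have hle : j.range ≤ ((MonoidHom.snd G A).comp Γ.subtype).ker := by rintro _ ⟨a, rfl⟩; rfl
  have h := Subgroup.card_dvd_of_le hle
  rwa [← Nat.card_congr (MonoidHom.ofInjective hj).toEquiv] at h

theorem cq_pairs {x : GL (Fin 248) (ZMod 3)} (hx : x ∈ cqSub) : (x, (1 : alternatingGroup (Fin 9))) ∈ cGamma := by
  have : cqSub ≤ cGamma.comap (MonoidHom.inl (GL (Fin 248) (ZMod 3)) (alternatingGroup (Fin 9))) := by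
    rw [cqSub, headSub, Subgroup.closure_le]
    rintro _ ⟨i, hi, rfl⟩
    exact cq_in_ker hi
  exact this hx

theorem ker_big : 2 ^ 9 ∣ Nat.card gSnd.ker := by
  have h := ker_dvd cGamma cqSub fun x hx => cq_pairs hx
  rwa [cq_card] at h

theorem card_alt9 : Nat.card (alternatingGroup (Fin 9)) = 181440 := by
  have h := nat_card_alternatingGroup (α := Fin 9)
  rw [h]
  simp [Nat.factorial]

theorem card_gamma : Nat.card cGamma = 181440 * Nat.card gSnd.ker := by
  rw [Subgroup.card_eq_card_quotient_mul_card_subgroup gSnd.ker,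
    Nat.card_congr (QuotientGroup.quotientKerEquivOfSurjective gSnd gSnd_surj).toEquiv, card_alt9]

theorem gens_in_cent : ∀ g < 7, Nat.beq (wmat [cLets.getD g 0, 0]) (wmat [0, cLets.getD g 0]) = true := by
  decide +kernel

theorem cH_le : cH ≤ cTh.map rho := by
  obtain ⟨-, -, -, hinj⟩ := th_facts
  rw [cH, Subgroup.closure_le]
  rintro _ ⟨g, hg, rfl⟩
  have hx := (cLets_lt g hg).1
  refine ⟨thEl [cLets.getD g 0], ?_, by rw [rho_thEl (List.forall_mem_cons.2 ⟨hx, by simp⟩)]; simp⟩
  have e0 : tg 0 = thEl [0] := by simp [thEl, wordVal, signed, genList, tg]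
  rw [SetLike.mem_coe, mem_cTh, e0]
  apply hinj
  rw [map_mul, map_mul, rho_thEl (List.forall_mem_cons.2 ⟨hx, by simp⟩), rho_thEl (by simp), ← List.prod_append, ← List.prod_append,
    ← List.map_append, ← List.map_append]
  have h1 := (wmat_spec (w := [cLets.getD g 0, 0]) (List.forall_mem_cons.2 ⟨hx, by simp⟩)).2
  have h2 := (wmat_spec (w := [0, cLets.getD g 0])
    (List.forall_mem_cons.2 ⟨by norm_num, List.forall_mem_cons.2 ⟨hx, by simp⟩⟩)).2
  rw [Nat.eq_of_beq_eq_true (gens_in_cent g hg)] at h1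
  exact Units.ext (h1.symm.trans h2)

theorem cTh_order : Nat.card cTh = 92897280 ∧ cH = cTh.map rho ∧ Nat.card gSnd.ker = 2 ^ 9 := by
  obtain ⟨hfin, -, -, hinj⟩ := th_facts
  have := hfin
  have hcard : Nat.card cGamma = Nat.card cH := by
    rw [← fst_gamma]
    refine Nat.card_congr (Equiv.ofBijective (fun x : cGamma => (⟨x.1.1, x.1, x.2, rfl⟩ :
      cGamma.map (MonoidHom.fst (GL (Fin 248) (ZMod 3)) (alternatingGroup (Fin 9))))) ⟨fun x y e => ?_, ?_⟩)
    · exact fst_inj (congrArg Subtype.val e)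
    · rintro ⟨_, x, hx, rfl⟩
      exact ⟨⟨x, hx⟩, rfl⟩
  have hdvd : Nat.card cH ∣ Nat.card cTh := by
    rw [← Subgroup.card_map_of_injective (K := cTh) hinj]
    exact Subgroup.card_dvd_of_le cH_le
  have h120 : 120 * 774144 ∣ Nat.card cH := by
    rw [← hcard, card_gamma, show 120 * 774144 = 181440 * 2 ^ 9 by norm_num]
    exact Nat.mul_dvd_mul_left _ ker_big
  have hc := cTh_card_dvd (h120.trans hdvd)
  have hH : Nat.card cH = 92897280 := Nat.dvd_antisymm (hc ▸ hdvd) h120
  refine ⟨hc, Subgroup.eq_of_le_of_card_ge cH_le ?_, ?_⟩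
  · rw [Subgroup.card_map_of_injective (K := cTh) hinj, hc, hH]
  · rw [← hcard, card_gamma] at hH
    omega

end Cfsg.Lib.ThRep
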