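import Cfsg.Agent.ThRep.CentChk

/-!
Listed permutations of nine letters, and the stabiliser of a line among them.
-/

set_option autoImplicit false
set_option maxRecDepth 100000

namespace Cfsg.Lib.ThRep

open Equiv

/-- A list gives the inverse of a permutation. -/
def IsP (a : List ℕ) (σ : Perm (Fin 9)) : Prop := a.length = 9 ∧ ∀ k : Fin 9, a.getD k.val 0 = (σ⁻¹ k).val

theorem eqL_eq : ∀ {a b : List ℕ}, eqL a b = true → a = b
  | [], [], _ => rfl
  | [], _ :: _, h => by simp [eqL] at h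
  | _ :: _, [], h => by simp [eqL] at h
  | a :: l, b :: m, h => by
    simp only [eqL, Bool.and_eq_true] at h
    rw [Nat.eq_of_beq_eq_true h.1, eqL_eq h.2]

theorem IsP.one : IsP idP 1 := ⟨rfl, fun k => by fin_cases k <;> rfl⟩

theorem IsP.mul {a b : List ℕ} {σ τ : Perm (Fin 9)} (ha : IsP a σ) (hb : IsP b τ) : IsP (mulP a b) (σ * τ) := by
  refine ⟨by rw [mulP, List.length_map, ha.1], fun k => ?_⟩
  have h : (mulP a b).getD k.val 0 = b.getD (a.getD k.val 0) 0 := by
    have hk : k.val < a.length := by rw [ha.1]; exact k.isLt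
    rw [mulP, List.getD_eq_getElem _ _ (by rw [List.length_map]; exact hk), List.getElem_map,
      List.getD_eq_getElem _ _ hk]
  rw [h, ha.2, hb.2, mul_inv_rev, Perm.mul_apply]

theorem IsP.unique {a : List ℕ} {σ τ : Perm (Fin 9)} (h : IsP a σ) (h' : IsP a τ) : σ = τ :=
  inv_injective (Equiv.ext fun k => Fin.ext ((h.2 k).symm.trans (h'.2 k)))

/-- The permutation whose inverse is listed. -/
def permP (a b : List ℕ) : Perm (Fin 9) :=
  if h : (∀ k : Fin 9, Fin.ofNat 9 (a.getD (Fin.ofNat 9 (b.getD k.val 0)).val 0) = k) ∧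
      ∀ k : Fin 9, Fin.ofNat 9 (b.getD (Fin.ofNat 9 (a.getD k.val 0)).val 0) = k then
    { toFun := fun k => Fin.ofNat 9 (b.getD k.val 0)
      invFun := fun k => Fin.ofNat 9 (a.getD k.val 0)
      left_inv := h.1
      right_inv := h.2 }
  else 1

theorem invPOK_isP {a b : List ℕ} (h : invPOK a b = true) : IsP a (permP a b) ∧ IsP b (permP a b)⁻¹ := by
  simp only [invPOK, Bool.and_eq_true, List.all_eq_true, Nat.blt_eq] at h
  obtain ⟨⟨⟨⟨⟨la, lb⟩, va⟩, vb⟩, e1⟩, e2⟩ := h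
  have la' := Nat.eq_of_beq_eq_true la
  have lb' := Nat.eq_of_beq_eq_true lb
  have lt : ∀ {c : List ℕ}, c.length = 9 → (∀ v ∈ c, v < 9) → ∀ k : Fin 9, c.getD k.val 0 < 9 :=
    fun {c} hc hv k => by
      rw [List.getD_eq_getElem _ _ (hc.symm ▸ k.isLt)]
      exact hv _ (List.getElem_mem _)
  have key : ∀ {c d : List ℕ}, c.length = 9 → (∀ v ∈ c, v < 9) → mulP c d = idP →
      ∀ k : Fin 9, (Fin.ofNat 9 (d.getD (Fin.ofNat 9 (c.getD k.val 0)).val 0)) = k := by
    intro c d hc hv he k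
    have h1 : (mulP c d).getD k.val 0 = d.getD (c.getD k.val 0) 0 := by
      have hk : k.val < c.length := by rw [hc]; exact k.isLt
      rw [mulP, List.getD_eq_getElem _ _ (by rw [List.length_map]; exact hk), List.getElem_map,
        List.getD_eq_getElem _ _ hk]
    rw [he] at h1
    apply Fin.ext
    rw [show (Fin.ofNat 9 (c.getD k.val 0)).val = c.getD k.val 0 from Nat.mod_eq_of_lt (lt hc hv k),
      ← h1]
    fin_cases k <;> rfl
  have ka := key la' va (eqL_eq e1)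
  have kb := key lb' vb (eqL_eq e2)
  have hP : permP a b = (⟨fun k => Fin.ofNat 9 (b.getD k.val 0), fun k => Fin.ofNat 9 (a.getD k.val 0), kb, ka⟩ :
      Perm (Fin 9)) := dif_pos ⟨kb, ka⟩
  rw [hP]
  exact ⟨⟨la', fun k => (Nat.mod_eq_of_lt (lt la' va k)).symm⟩, ⟨lb', fun k => (Nat.mod_eq_of_lt (lt lb' vb k)).symm⟩⟩

/-- The permutation of a generator. -/
def pgen (g : ℕ) : Perm (Fin 9) := permP (cPerm.getD g idP) (cPermInv.getD g idP)

/-- The representative at a line. -/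
def prep (i : ℕ) : Perm (Fin 9) := permP (cReps.getD i idP) (cRepInv.getD i idP)

/-- A stabilising generator. -/
def pstab (k : ℕ) : Perm (Fin 9) := permP (cStab.getD k idP) (cStabInv.getD k idP)

theorem pgen_isP {g : ℕ} (hg : g < 7) : IsP (cPerm.getD g idP) (pgen g) ∧ IsP (cPermInv.getD g idP) (pgen g)⁻¹ :=
  invPOK_isP (List.all_eq_true.1 perm_chk.1 g (List.mem_range.2 hg))

theorem prep_isP {i : ℕ} (hi : i < 120) : IsP (cReps.getD i idP) (prep i) ∧ IsP (cRepInv.getD i idP) (prep i)⁻¹ :=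
  invPOK_isP (List.all_eq_true.1 perm_chk.2.1 i (List.mem_range.2 hi))

theorem pstab_isP {k : ℕ} (hk : k < cStab.length) :
    IsP (cStab.getD k idP) (pstab k) ∧ IsP (cStabInv.getD k idP) (pstab k)⁻¹ :=
  invPOK_isP (List.all_eq_true.1 perm_chk.2.2.1 k (List.mem_range.2 hk))

theorem prep_zero : prep 0 = 1 := (prep_isP (by norm_num)).1.unique (eqL_eq perm_chk.2.2.2 ▸ IsP.one)

/-- The stabiliser of the first line. -/
def stab0 : Subgroup (Perm (Fin 9)) := Subgroup.closure (pstab '' Set.Iio cStab.length)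

theorem stabVal_isP : ∀ {w : List ℕ}, (∀ k ∈ w, k < cStab.length) →
    ∃ s ∈ stab0, IsP (stabVal w) s
  | [], _ => ⟨1, stab0.one_mem, IsP.one⟩
  | k :: w, h => by
    have hk := h k List.mem_cons_self
    obtain ⟨s, hs, hP⟩ := stabVal_isP fun j hj => h j (List.mem_cons_of_mem k hj)
    exact ⟨pstab k * s, stab0.mul_mem (Subgroup.subset_closure ⟨k, hk, rfl⟩) hs, (pstab_isP hk).1.mul hP⟩

theorem coset_step {g i : ℕ} (hg : g < 7) (hi : i < 120) (hj : (cImg.getD g []).getD i 0 < 240) :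
    prep i * pgen g * (prep ((cImg.getD g []).getD i 0 / 2))⁻¹ ∈ stab0 := by
  have h := List.all_eq_true.1 (List.all_eq_true.1 coset_chk g (List.mem_range.2 hg)) i (List.mem_range.2 hi)
  simp only [Bool.and_eq_true, List.all_eq_true, Nat.blt_eq] at h
  obtain ⟨s, hs, hP⟩ := stabVal_isP h.1
  have e : (cImg.getD g []).getD i 0 / 2 < 120 := by omega
  have hQ := ((prep_isP hi).1.mul (pgen_isP hg).1).mul (prep_isP e).2
  have he := eqL_eq h.2
  rw [show Nat.div ((cImg.getD g []).getD i 0) 2 = (cImg.getD g []).getD i 0 / 2 from rfl] at he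
  rw [he] at hQ
  rwa [hQ.unique hP]

/-- The code of a permutation. -/
def encP (σ : Perm (Fin 9)) : ℕ :=
  (List.range 9).foldr (fun k acc => Nat.add (σ (Fin.ofNat 9 k)).val (Nat.mul 16 acc)) 0

theorem dig_nine (v0 v1 v2 v3 v4 v5 v6 v7 v8 : ℕ) (h0 : v0 < 16) (h1 : v1 < 16) (h2 : v2 < 16) (h3 : v3 < 16) (h4 : v4 < 16) (h5 : v5 < 16) (h6 : v6 < 16) (h7 : v7 < 16) (h8 : v8 < 16) (k : ℕ)
    (hk : k < 9) : (v0 + 16 * (v1 + 16 * (v2 + 16 * (v3 + 16 * (v4 + 16 * (v5 + 16 * (v6 + 16 * (v7 + 16 * (v8 + 16 * 0))))))))) / 2 ^ (4 * k) % 16 = [v0, v1, v2, v3, v4, v5, v6, v7, v8].getD k 0 := by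
  interval_cases k <;> simp only [List.getD_cons_zero, List.getD_cons_succ] <;> omega

theorem dig16_encP (σ : Perm (Fin 9)) (k : Fin 9) : dig16 (encP σ) k.val = (σ k).val := by
  have hlt : ∀ j : Fin 9, (σ j).val < 16 := fun j => by omega
  show encP σ >>> (4 * k.val) % 16 = _
  rw [show encP σ = (σ 0).val + 16 * ((σ 1).val + 16 * ((σ 2).val + 16 * ((σ 3).val + 16 * ((σ 4).val + 16 * ((σ 5).val + 16 * ((σ 6).val + 16 * ((σ 7).val + 16 * ((σ 8).val + 16 * 0)))))))) from rfl, Nat.shiftRight_eq_div_pow,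
    dig_nine _ _ _ _ _ _ _ _ _ (hlt _) (hlt _) (hlt _) (hlt _) (hlt _) (hlt _) (hlt _) (hlt _) (hlt _) k.val k.isLt]
  fin_cases k <;> rfl

theorem posOf_spec : ∀ {l : List ℕ} {v i : ℕ}, i < l.length → l.getD i 0 = v →
    (∀ j < i, l.getD j 0 ≠ v) → posOf v l = i
  | [], v, i, h, _, _ => by simp at h
  | a :: l, v, 0, _, h, _ => by
    have e : a = v := by simpa using h
    subst e
    rw [posOf, show Nat.beq a a = true from Nat.beq_refl a, cond_true]
  | a :: l, v, i + 1, hi, h, hne => by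
    have e : a ≠ v := by simpa using hne 0 i.succ_pos
    rw [posOf, show Nat.beq a v = false from Bool.eq_false_iff.2 fun h => e (Nat.eq_of_beq_eq_true h), cond_false]
    show posOf v l + 1 = i + 1
    rw [posOf_spec (by simpa using hi) (by simpa using h) fun j hj => by simpa using hne (j + 1) (by omega)]

theorem IsP.pos {a : List ℕ} {σ : Perm (Fin 9)} (h : IsP a σ) (k : Fin 9) : posOf k.val a = (σ k).val := by
  refine posOf_spec (by rw [h.1]; exact (σ k).isLt) ?_ fun j hj => ?_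
  · rw [h.2]
    simp
  · intro e
    have hj9 : j < 9 := lt_trans hj (σ k).isLt
    have := h.2 ⟨j, hj9⟩
    rw [show ((⟨j, hj9⟩ : Fin 9)).val = j from rfl, e] at this
    have e2 : σ k = ⟨j, hj9⟩ := by
      rw [show k = σ⁻¹ ⟨j, hj9⟩ from Fin.ext this]
      simp
    rw [e2] at hj
    exact lt_irrefl _ hj

theorem cjN_encP {a : List ℕ} {σ : Perm (Fin 9)} (h : IsP a σ) (x : Perm (Fin 9)) :
    cjN a (encP x) = encP (σ⁻¹ * x * σ) := by
  unfold cjN
  refine (List.foldr_ext _ _ _ fun k hk acc => ?_).trans rfl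
  have hk' : k < 9 := List.mem_range.1 hk
  have hofk : (Fin.ofNat 9 k : Fin 9) = ⟨k, hk'⟩ := Fin.ext (Nat.mod_eq_of_lt hk')
  have e1 : posOf k a = (σ ⟨k, hk'⟩).val := h.pos ⟨k, hk'⟩
  rw [e1, dig16_encP, h.2, hofk, Perm.mul_apply, Perm.mul_apply]

theorem cjI_encP {a : List ℕ} {σ : Perm (Fin 9)} (h : IsP a σ) (x : Perm (Fin 9)) :
    cjI a (encP x) = encP (σ * x * σ⁻¹) := by
  unfold cjI
  refine (List.foldr_ext _ _ _ fun k hk acc => ?_).trans rfl
  have hk' : k < 9 := List.mem_range.1 hk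
  have hofk : (Fin.ofNat 9 k : Fin 9) = ⟨k, hk'⟩ := Fin.ext (Nat.mod_eq_of_lt hk')
  have e1 : a.getD k 0 = (σ⁻¹ ⟨k, hk'⟩).val := h.2 ⟨k, hk'⟩
  rw [e1, dig16_encP, h.pos, hofk, Perm.mul_apply, Perm.mul_apply]

/-- The permutations listed at the first line. -/
def obj0 : Set (Perm (Fin 9)) := {σ | encP σ ∈ cObj0}

/-- The stabiliser of the listed set. -/
def objStab : Subgroup (Perm (Fin 9)) where
  carrier := {σ | ∀ x, x ∈ obj0 ↔ σ * x * σ⁻¹ ∈ obj0}
  one_mem' := fun x => by simp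
  mul_mem' := fun {s t} hs ht x => by
    rw [ht x, hs (t * x * t⁻¹), mul_inv_rev]
    simp only [mul_assoc]
  inv_mem' := fun {s} hs x => by
    rw [hs (s⁻¹ * x * s⁻¹⁻¹)]
    simp [mul_assoc]

theorem stab0_le : stab0 ≤ objStab := by
  rw [stab0, Subgroup.closure_le]
  rintro _ ⟨k, hk, rfl⟩
  have h := List.all_eq_true.1 obj0_chk.1 k (List.mem_range.2 hk)
  simp only [List.all_eq_true, List.any_eq_true, Bool.and_eq_true] at h
  intro x
  constructor
  · intro hx
    obtain ⟨-, y, hy, e⟩ := h _ hx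
    show encP _ ∈ cObj0
    rw [← cjI_encP (pstab_isP hk).1, Nat.eq_of_beq_eq_true e]
    exact hy
  · intro hx
    obtain ⟨⟨y, hy, e⟩, -⟩ := h _ hx
    show encP _ ∈ cObj0
    have e2 := cjN_encP (pstab_isP hk).1 (pstab k * x * (pstab k)⁻¹)
    rw [show (pstab k)⁻¹ * (pstab k * x * (pstab k)⁻¹) * pstab k = x by group] at e2
    rw [← e2, Nat.eq_of_beq_eq_true e]
    exact hy

/-- The listed codes are codes of permutations. -/
def mkP (x : ℕ) : Perm (Fin 9) := permP ((List.range 9).map fun k => posOf k ((List.range 9).map (dig16 x)))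
  ((List.range 9).map (dig16 x))

theorem cObj0_perms : cObj0.all (fun x => Nat.beq (encP (mkP x)) x) = true := by decide +kernel

theorem exists_outside : ∃ g < 7, pgen g ∉ stab0 := by
  have h := obj0_chk.2
  simp only [List.any_eq_true, List.mem_range, Bool.not_eq_true'] at h
  obtain ⟨g, hg, x, hx, hno⟩ := h
  refine ⟨g, hg, fun hmem => ?_⟩
  have e := List.all_eq_true.1 cObj0_perms x hx
  have hmem' := stab0_le (stab0.inv_mem hmem) (mkP x)
  rw [inv_inv] at hmem'
  have h2 : encP ((pgen g)⁻¹ * mkP x * pgen g) ∈ cObj0 := hmem'.1 (by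
    show encP _ ∈ cObj0
    rw [Nat.eq_of_beq_eq_true e]; exact hx)
  rw [← cjN_encP (pgen_isP hg).1, Nat.eq_of_beq_eq_true e] at h2
  rw [List.any_eq_false] at hno
  exact hno _ h2 (Nat.beq_refl _)

end Cfsg.Lib.ThRep
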