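import Cfsg.Agent.ThRep.Maximal

/-!
The cosets of the subgroup of index 143127000 are the disjoint union of eleven orbits.
-/

set_option autoImplicit false
set_option maxRecDepth 100000

namespace Cfsg.Lib.ThRep

open Cfsg Cfsg.Lib.ThCert

/-- The orbits together. -/
noncomputable def allMap (z : Σ n : Fin 11, P ⧸ cosStab n.val) : Spor.Th ⧸ Kth := orbMap z.1.val z.2

theorem allMap_facts : Function.Bijective allMap ∧ ∀ n : Fin 11, Nat.card (cosStab n.val) = covOrd n.val := by
  classical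
  obtain ⟨hfin, -, hidx, -⟩ := th_facts
  have := hfin
  have : Finite P := card_P_le.1
  have hQ : Nat.card (Spor.Th ⧸ Kth) = 143127000 := hidx
  have hsurj : Function.Surjective allMap := fun q => by
    refine Quotient.inductionOn' q fun g => ?_
    obtain ⟨n, hn, a, e⟩ := all_InO g⁻¹
    refine ⟨⟨⟨n, hn⟩, ((a⁻¹ : P) : P ⧸ cosStab n)⟩, QuotientGroup.eq.2 ?_⟩
    have e' : g⁻¹ * (vv n * fTh a)⁻¹ ∈ Kth := e
    rw [← inv_mem_iff]
    rwa [show ((fTh a⁻¹ * (vv n)⁻¹)⁻¹ * g)⁻¹ = g⁻¹ * (vv n * fTh a)⁻¹ by rw [map_inv]; group]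
  have hle : ∀ n : Fin 11, Nat.card (P ⧸ cosStab n.val) ≤ orbSize n.val := fun n => by
    obtain ⟨h1, h2⟩ := (cov_facts n.val n.2).1
    have h3 := Subgroup.card_mul_index (cosStab n.val)
    rw [card_P] at h3
    show (cosStab n.val).index ≤ _
    rw [orbSize, Nat.le_div_iff_mul_le h1, ← h3, mul_comm]
    exact Nat.mul_le_mul_right _ h2
  have hsum : ∑ n : Fin 11, orbSize n.val = 143127000 := by
    rw [Fin.sum_univ_eq_sum_range orbSize 11]; exact covOrd_sum
  have hc := Nat.card_le_card_of_surjective allMap hsurj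
  rw [Nat.card_sigma, hQ] at hc
  have heq : ∀ n : Fin 11, Nat.card (P ⧸ cosStab n.val) = orbSize n.val := fun n =>
    ((Finset.sum_eq_sum_iff_of_le (f := fun n : Fin 11 => Nat.card (P ⧸ cosStab n.val))
      (g := fun n : Fin 11 => orbSize n.val) (fun i _ => hle i)).1
      (le_antisymm (Finset.sum_le_sum fun i _ => hle i) (hsum ▸ hc))) n (Finset.mem_univ n)
  refine ⟨(Nat.bijective_iff_surjective_and_card allMap).2 ⟨hsurj, by
    rw [Nat.card_sigma, hQ, ← hsum]
    exact Finset.sum_congr rfl fun n _ => heq n⟩, fun n => ?_⟩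
  obtain ⟨h1, h2⟩ := (cov_facts n.val n.2).1
  have h3 := Subgroup.card_mul_index (cosStab n.val)
  have hd : covOrd n.val * (634023936 / covOrd n.val) = 634023936 := Nat.mul_div_cancel' (covOrd_dvd n)
  have h4 := heq n
  change (cosStab n.val).index = _ at h4
  rw [card_P, h4, orbSize] at h3
  have hpos : 0 < 634023936 / covOrd n.val := by
    rcases Nat.eq_zero_or_pos (634023936 / covOrd n.val) with h | h
    · rw [h, mul_zero] at hd; omega
    · exact h
  exact Nat.eq_of_mul_eq_mul_right hpos (h3.trans hd.symm)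
where
  covOrd_dvd : ∀ n : Fin 11, covOrd n.val ∣ 634023936 := by decide +kernel

end Cfsg.Lib.ThRep
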