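import Mathlib

/-!
Numbers as sequences of fields of ten bits.
-/

set_option autoImplicit false

namespace Cfsg.Lib.ThRep

/-- A field. -/
def fld (x q : ℕ) : ℕ := x / 1024 ^ q % 1024

/-- The number with the given first fields. -/
def ofF (f : ℕ → ℕ) : ℕ → ℕ
  | 0 => 0
  | n + 1 => ofF f n + f n * 1024 ^ n

theorem ofF_lt {f : ℕ → ℕ} : ∀ {n : ℕ}, (∀ q < n, f q < 1024) → ofF f n < 1024 ^ n
  | 0, _ => by simp [ofF]
  | n + 1, h => by
    have ih := ofF_lt (n := n) fun q hq => h q (by omega)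
    have h1 : f n + 1 ≤ 1024 := h n (by omega)
    calc ofF f n + f n * 1024 ^ n < 1024 ^ n + f n * 1024 ^ n := by omega
      _ = (f n + 1) * 1024 ^ n := by rw [add_mul, one_mul, add_comm]
      _ ≤ 1024 * 1024 ^ n := Nat.mul_le_mul_right _ h1
      _ = 1024 ^ (n + 1) := by rw [pow_succ']

theorem fld_ofF {f : ℕ → ℕ} : ∀ {n q : ℕ}, (∀ q < n, f q < 1024) → q < n → fld (ofF f n) q = f q
  | 0, q, _, h => absurd h (Nat.not_lt_zero q)
  | n + 1, q, hf, hq => by
    have hl := ofF_lt (n := n) fun q hq => hf q (by omega)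
    rcases Nat.lt_succ_iff_lt_or_eq.1 hq with hq' | rfl
    · rw [← fld_ofF (fun q hq => hf q (by omega)) hq', ofF, fld, fld]
      obtain ⟨d, rfl⟩ : ∃ d, n = q + (d + 1) := ⟨n - q - 1, by omega⟩
      rw [show f (q + (d + 1)) * 1024 ^ (q + (d + 1)) = (f (q + (d + 1)) * 1024 ^ d * 1024) * 1024 ^ q by ring,
        Nat.add_mul_div_right _ _ (by positivity), Nat.add_mul_mod_self_right]
    · rw [ofF, fld, Nat.add_mul_div_right _ _ (by positivity), Nat.div_eq_of_lt hl, Nat.zero_add,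
        Nat.mod_eq_of_lt (hf q (by omega))]

theorem ofF_fld (x : ℕ) : ∀ n : ℕ, ofF (fld x) n = x % 1024 ^ n
  | 0 => by simp [ofF, Nat.mod_one]
  | n + 1 => by
    rw [ofF, ofF_fld x n, fld, pow_succ, Nat.mod_mul]
    ring

theorem ofF_fld_of_lt {x n : ℕ} (h : x < 1024 ^ n) : ofF (fld x) n = x := by
  rw [ofF_fld, Nat.mod_eq_of_lt h]

theorem ofF_congr {f g : ℕ → ℕ} : ∀ {n : ℕ}, (∀ q < n, f q = g q) → ofF f n = ofF g n
  | 0, _ => rfl
  | n + 1, h => by rw [ofF, ofF, ofF_congr fun q hq => h q (by omega), h n (by omega)]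

theorem ofF_add (f g : ℕ → ℕ) : ∀ n : ℕ, ofF f n + ofF g n = ofF (fun q => f q + g q) n
  | 0 => rfl
  | n + 1 => by
    rw [ofF, ofF, ofF, ← ofF_add f g n]
    ring

theorem ofF_mul (c : ℕ) (f : ℕ → ℕ) : ∀ n : ℕ, c * ofF f n = ofF (fun q => c * f q) n
  | 0 => rfl
  | n + 1 => by
    rw [ofF, ofF, ← ofF_mul c f n]
    ring

theorem fld_eq (x q : ℕ) : fld x q = x >>> (10 * q) % 1024 := by
  rw [fld, Nat.shiftRight_eq_div_pow, pow_mul]
  norm_num

theorem fld_and (x y q : ℕ) : fld (x &&& y) q = fld x q &&& fld y q := by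
  rw [fld_eq, fld_eq, fld_eq, Nat.shiftRight_and_distrib, show (1024 : ℕ) = 2 ^ 10 by norm_num,
    ← Nat.and_two_pow_sub_one_eq_mod, ← Nat.and_two_pow_sub_one_eq_mod, ← Nat.and_two_pow_sub_one_eq_mod]
  apply Nat.eq_of_testBit_eq
  intro i
  simp only [Nat.testBit_and]
  cases (2 ^ 10 - 1).testBit i <;> simp

theorem fld_shift {x q m : ℕ} (hm : m < 256) : fld (x >>> 2) q &&& m = fld x q / 4 &&& m := by
  rw [fld_eq, fld_eq, ← Nat.shiftRight_add, show 2 + 10 * q = 10 * q + 2 by omega, Nat.shiftRight_add,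
    Nat.shiftRight_eq_div_pow (x >>> (10 * q)) 2]
  generalize x >>> (10 * q) = z
  have e2 : z % 1024 / 4 = z / 2 ^ 2 % 256 := by norm_num; omega
  rw [e2]
  apply Nat.eq_of_testBit_eq
  intro i
  rw [Nat.testBit_and, Nat.testBit_and]
  rcases lt_or_ge i 8 with hi | hi
  · rw [show (1024 : ℕ) = 2 ^ 10 by norm_num, show (256 : ℕ) = 2 ^ 8 by norm_num, Nat.testBit_mod_two_pow,
      Nat.testBit_mod_two_pow, decide_eq_true hi, decide_eq_true (by omega : i < 10)]
  · rw [Nat.testBit_lt_two_pow (lt_of_lt_of_le hm (le_trans (by norm_num) (Nat.pow_le_pow_right (by norm_num) hi)))]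
    simp

theorem fld_lt (x q : ℕ) : fld x q < 1024 := Nat.mod_lt _ (by norm_num)

theorem fld_of_big {x q : ℕ} (h : x < 1024 ^ q) : fld x q = 0 := by rw [fld, Nat.div_eq_of_lt h, Nat.zero_mod]

end Cfsg.Lib.ThRep
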