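import Cfsg.Agent.ThRep.Rep
import Cfsg.Agent.ThCert.MSimple
import Cfsg.Agent.ThCert.Index

/-!
The presented subgroup of order 634023936 maps injectively to the group and to the matrices of size 248.
-/

set_option autoImplicit false
set_option maxRecDepth 100000
set_option exponentiation.threshold 3000

namespace Cfsg.Lib.ThRep

open Cfsg Cfsg.Lib.ThCert

theorem wmat_ne_one {w : List ℕ} (hw : ∀ x ∈ w, x < 16) (h : Nat.beq (wmat w) one248 = false) :
    (w.map letGL).prod ≠ 1 := by
  intro e
  obtain ⟨h1, h2⟩ := wmat_spec hw
  rw [e, Units.val_one, ← one248_spec.2] at h2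
  exact Nat.ne_of_beq_eq_false h (toMN_inj h1 one248_spec.1 h2)

theorem a_ne_one : Nat.beq (wmat [0]) one248 = false := by decide +kernel

theorem rho_fTh_injective : Function.Injective (rho.comp fTh) := by
  rw [← MonoidHom.ker_eq_bot_iff]
  rcases normal_cases (rho.comp fTh).ker inferInstance with h | h
  · refine absurd ?_ (wmat_ne_one (w := [0]) (by simp) a_ne_one)
    have e : (rho.comp fTh) (pg 0) = 1 := h
    rw [MonoidHom.comp_apply, show pg 0 = wordVal (sgn pg) [0] by simp [wordVal, sgn],
      fTh_word (w := [0]) (by simp), show wordVal (signed tgen) [0] = thEl [0] from rfl, rho_thEl (by simp)] at e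
    exact e
  · exact h

theorem fTh_injective : Function.Injective fTh := fun a b e => rho_fTh_injective (by simp [e])

theorem card_Kth : Nat.card Kth = 634023936 := by
  rw [show Kth = fTh.range from rfl, ← Nat.card_congr (MonoidHom.ofInjective fTh_injective).toEquiv, card_P]

theorem kth_dvd_image : 634023936 ∣ Nat.card rho.range := by
  rw [← card_P, Nat.card_congr (MonoidHom.ofInjective rho_fTh_injective).toEquiv]
  exact Subgroup.card_dvd_of_le (by rintro _ ⟨a, rfl⟩; exact ⟨fTh a, rfl⟩)

end Cfsg.Lib.ThRep
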