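import Cfsg.Agent.ThRep.Rows
import Cfsg.Agent.ThRep.Data.Gens
import Cfsg.Agent.ThRep.Data.GensInv

/-!
The letters as matrices of size 248 over the field with three elements.
-/

set_option autoImplicit false
set_option maxRecDepth 100000
set_option exponentiation.threshold 3000

namespace Cfsg.Lib.ThRep

/-- The rows of the signed letters. -/
def rowsTab : List (List ℕ) :=
  [genRows0, genRows0, genRows1, genRows1, genRows2, genRows2, genRows3, genRows3, genRows4, genRows4,
    genRows5, invRows5, genRows6, invRows6, genRows7, invRows7]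

/-- The rows of a signed letter. -/
def rowsOf (x : ℕ) : List ℕ := rowsTab.getD x oneRows

/-- The inverse letter. -/
def invLet (x : ℕ) : ℕ := if x % 2 = 0 then x + 1 else x - 1

/-- Some rows times the matrices of the letters of a word. -/
noncomputable def actW (n : ℕ) : ℕ → List ℕ → ℕ
  | A, [] => A
  | A, x :: w => actW n (prodG n A (rowsOf x)) w

theorem rows_chk : ((List.range 16).all fun x =>
    Nat.beq (rowsOf x).length 248 && (rowsOf x).all (redOK 1)) = true := by decide +kernel

theorem inv_chk : ((List.range 16).all fun x =>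
    Nat.beq (prodG 248 (packRows (rowsOf x)) (rowsOf (invLet x))) one248) = true := by decide +kernel

theorem rowsOf_ok {x : ℕ} (hx : x < 16) : (rowsOf x).length = 248 ∧ ∀ b ∈ rowsOf x, RedN 248 b := by
  have h := List.all_eq_true.1 rows_chk x (List.mem_range.2 hx)
  rw [Bool.and_eq_true] at h
  exact ⟨Nat.eq_of_beq_eq_true h.1, fun b hb => redOK_sound (n := 1) (List.all_eq_true.1 h.2 b hb)⟩

theorem invLet_lt {x : ℕ} (hx : x < 16) : invLet x < 16 ∧ invLet (invLet x) = x := by
  interval_cases x <;> simp [invLet]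

theorem rows_mul_inv {x : ℕ} (hx : x < 16) : rowsM (rowsOf x) * rowsM (rowsOf (invLet x)) = 1 := by
  obtain ⟨l1, r1⟩ := rowsOf_ok hx
  obtain ⟨l2, r2⟩ := rowsOf_ok (invLet_lt hx).1
  obtain ⟨p1, p2⟩ := packRows_mat l1 r1
  obtain ⟨q1, q2⟩ := toMN_prod (n := 248) l2 p1 r2
  rw [← p2, ← q2, Nat.eq_of_beq_eq_true (List.all_eq_true.1 inv_chk x (List.mem_range.2 hx))]
  exact one248_spec.2

/-- The matrix of a signed letter. -/
def letGL (x : ℕ) : GL (Fin 248) (ZMod 3) :=
  if hx : x < 16 then
    { val := rowsM (rowsOf x)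
      inv := rowsM (rowsOf (invLet x))
      val_inv := rows_mul_inv hx
      inv_val := by
        have h := rows_mul_inv (invLet_lt hx).1
        rwa [(invLet_lt hx).2] at h }
  else 1

theorem letGL_val {x : ℕ} (hx : x < 16) :
    (letGL x : Matrix (Fin 248) (Fin 248) (ZMod 3)) = rowsM (rowsOf x) := by rw [letGL, dif_pos hx]

theorem actW_spec (n : ℕ) : ∀ (w : List ℕ) (A : ℕ), (∀ x ∈ w, x < 16) → RedN (248 * n) A →
    RedN (248 * n) (actW n A w) ∧ toMN n (actW n A w) =
      toMN n A * ((w.map letGL).prod : GL (Fin 248) (ZMod 3)).val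
  | [], A, _, hA => ⟨hA, by simp [actW]⟩
  | x :: w, A, hw, hA => by
    have hx := hw x List.mem_cons_self
    obtain ⟨l1, r1⟩ := rowsOf_ok hx
    obtain ⟨h1, h2⟩ := toMN_prod (n := n) l1 hA r1
    obtain ⟨h3, h4⟩ := actW_spec n w (prodG n A (rowsOf x)) (fun y hy => hw y (List.mem_cons_of_mem x hy)) h1
    refine ⟨h3, h4.trans ?_⟩
    rw [h2, Matrix.mul_assoc, List.map_cons, List.prod_cons, Units.val_mul, letGL_val hx]

/-- The packed matrix of a word. -/
noncomputable def wmat (w : List ℕ) : ℕ := actW 248 one248 w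

theorem wmat_spec {w : List ℕ} (hw : ∀ x ∈ w, x < 16) : RedN (248 * 248) (wmat w) ∧
    toMN 248 (wmat w) = ((w.map letGL).prod : GL (Fin 248) (ZMod 3)).val := by
  obtain ⟨h1, h2⟩ := actW_spec 248 w one248 hw one248_spec.1
  exact ⟨h1, by rw [wmat, h2, one248_spec.2, Matrix.one_mul]⟩

theorem wmat_one {w : List ℕ} (hw : ∀ x ∈ w, x < 16) (h : Nat.beq (wmat w) one248 = true) :
    (w.map letGL).prod = 1 := by
  refine Units.ext ?_
  rw [← (wmat_spec hw).2, Nat.eq_of_beq_eq_true h, one248_spec.2]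
  rfl

end Cfsg.Lib.ThRep
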