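import Cfsg.Agent.ThRep.Fields

/-!
Products of matrices and vectors of size 248 over the field with three elements, in fields of ten bits.
-/

set_option autoImplicit false
set_option exponentiation.threshold 3000

namespace Cfsg.Lib.ThRep

/-- The size of a row. -/
abbrev RB : ℕ := 1024 ^ 248

/-- A number by its rows. -/
def ofR (g : ℕ → ℕ) : ℕ → ℕ
  | 0 => 0
  | n + 1 => ofR g n + g n * RB ^ n

/-- One at the foot of each row. -/
def col1 : ℕ → ℕ
  | 0 => 0
  | n + 1 => Nat.add (col1 n) (Nat.shiftLeft 1 (Nat.mul 2480 n))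

/-- One at the foot of each field of one row. -/
def rowLow : ℕ → ℕ
  | 0 => 0
  | n + 1 => Nat.add (rowLow n) (Nat.shiftLeft 1 (Nat.mul 10 n))

/-- One at the foot of each field. -/
def lowAll (n : ℕ) : ℕ := Nat.mul (rowLow 248) (col1 n)

/-- The sum of the products of the columns and the rows. -/
noncomputable def goMul (c A : ℕ) (L : List ℕ) : ℕ → ℕ :=
  List.rec (motive := fun _ => ℕ → ℕ) (fun _ => 0)
    (fun b _ ih k => Nat.add (Nat.mul (Nat.land (Nat.shiftRight A (Nat.mul 10 k)) c) b) (ih (Nat.add k 1))) L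

/-- A step of the reduction by three. -/
def redStep (m3 m255 y : ℕ) : ℕ := Nat.add (Nat.land y m3) (Nat.land (Nat.shiftRight y 2) m255)

/-- The last step. -/
def redFin (lw y : ℕ) : ℕ := Nat.sub y (Nat.mul 3 (Nat.land (Nat.shiftRight (Nat.add y lw) 2) lw))

/-- The reduction. -/
def redAll (lw y : ℕ) : ℕ :=
  let m3 := Nat.mul 3 lw
  let m255 := Nat.mul 255 lw
  redFin lw (redStep m3 m255 (redStep m3 m255 (redStep m3 m255 (redStep m3 m255 (redStep m3 m255
    (redStep m3 m255 (redStep m3 m255 y)))))))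

/-- The product of some rows with a matrix given by rows. -/
noncomputable def prodG (n A : ℕ) (L : List ℕ) : ℕ := redAll (lowAll n) (goMul (Nat.mul 1023 (col1 n)) A L 0)

/-- The rows of a packed matrix. -/
def rowsFrom (A : ℕ) : ℕ → ℕ → List ℕ
  | _, 0 => []
  | k, m + 1 =>
    Nat.land (Nat.shiftRight A (Nat.mul 2480 k)) (Nat.sub (Nat.shiftLeft 1 2480) 1) :: rowsFrom A (Nat.add k 1) m

/-- The product of packed matrices. -/
noncomputable def mm3 (A B : ℕ) : ℕ := prodG 248 A (rowsFrom B 0 248)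

/-- A packed matrix from its rows. -/
def packRows : List ℕ → ℕ
  | [] => 0
  | r :: l => Nat.add r (Nat.shiftLeft (packRows l) 2480)

/-- Reduced numbers. -/
def RedN (n x : ℕ) : Prop := x < 1024 ^ n ∧ ∀ q < n, fld x q ≤ 2

theorem ofF_blocks (f : ℕ → ℕ) : ∀ n : ℕ, ofF f (248 * n) = ofR (fun j => ofF (fun i => f (248 * j + i)) 248) n
  | 0 => rfl
  | n + 1 => by
    have key : ∀ m, ofF f (248 * n + m) = ofF f (248 * n) + ofF (fun i => f (248 * n + i)) m * RB ^ n := by
      intro m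
      induction m with
      | zero => simp [ofF]
      | succ m ih =>
        rw [← add_assoc, ofF, ih, ofF, RB, ← pow_mul, pow_add]
        ring
    rw [ofR, ← ofF_blocks f n, show 248 * (n + 1) = 248 * n + 248 by ring, key]

theorem ofR_mul (c : ℕ) (g : ℕ → ℕ) : ∀ n : ℕ, c * ofR g n = ofR (fun j => c * g j) n
  | 0 => rfl
  | n + 1 => by
    rw [ofR, ofR, ← ofR_mul c g n]
    ring

theorem ofR_congr {f g : ℕ → ℕ} : ∀ {n : ℕ}, (∀ q < n, f q = g q) → ofR f n = ofR g n
  | 0, _ => rfl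
  | n + 1, h => by rw [ofR, ofR, ofR_congr fun q hq => h q (by omega), h n (by omega)]

theorem col1_eq : ∀ n : ℕ, col1 n = ofR (fun _ => 1) n
  | 0 => rfl
  | n + 1 => by
    show col1 n + 1 <<< (2480 * n) = _
    rw [col1_eq n, ofR, RB, ← pow_mul, Nat.shiftLeft_eq, show (1024 : ℕ) = 2 ^ 10 by norm_num, ← pow_mul,
      show 10 * (248 * n) = 2480 * n by ring]

theorem rowLow_eq : ∀ n : ℕ, rowLow n = ofF (fun _ => 1) n
  | 0 => rfl
  | n + 1 => by
    show rowLow n + 1 <<< (10 * n) = _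
    rw [rowLow_eq n, ofF, Nat.shiftLeft_eq, show (1024 : ℕ) = 2 ^ 10 by norm_num, ← pow_mul]

theorem lowAll_eq (n : ℕ) : lowAll n = ofF (fun _ => 1) (248 * n) := by
  show rowLow 248 * col1 n = _
  rw [ofF_blocks, col1_eq, ofR_mul, rowLow_eq]
  simp only [mul_one]

theorem colMask_eq (n : ℕ) : 1023 * col1 n = ofF (fun q => if q % 248 = 0 then 1023 else 0) (248 * n) := by
  rw [ofF_blocks, col1_eq, ofR_mul]
  refine ofR_congr fun j _ => ?_
  have e : ∀ m, m < 248 → ofF (fun i => if (248 * j + i) % 248 = 0 then 1023 else 0) (m + 1) = 1023 := by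
    intro m
    induction m with
    | zero => intro _; simp [ofF, Nat.mul_mod_right]
    | succ m ih =>
      intro hm
      rw [ofF, ih (by omega), if_neg (by omega), Nat.zero_mul, Nat.add_zero]
  rw [mul_one]
  exact (e 247 (by omega)).symm

theorem fld_shift_field (A k q : ℕ) : fld (A >>> (10 * k)) q = fld A (k + q) := by
  rw [fld_eq, fld_eq, ← Nat.shiftRight_add]
  ring_nf

theorem sel_eq (n A k : ℕ) :
    (A >>> (10 * k)) &&& (1023 * col1 n) = ofR (fun j => fld A (k + 248 * j)) n := by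
  have hb : ∀ q < 248 * n, (if q % 248 = 0 then 1023 else 0) < 1024 := fun q _ => by split_ifs <;> norm_num
  have hlt : (A >>> (10 * k)) &&& (1023 * col1 n) < 1024 ^ (248 * n) :=
    lt_of_le_of_lt Nat.and_le_right (colMask_eq n ▸ ofF_lt hb)
  rw [← ofF_fld_of_lt hlt, ofF_blocks]
  refine ofR_congr fun j hj => ?_
  have e : ∀ i < 248, fld ((A >>> (10 * k)) &&& (1023 * col1 n)) (248 * j + i) =
      if i = 0 then fld A (k + 248 * j) else 0 := by
    intro i hi
    rw [fld_and, colMask_eq, fld_ofF hb (by omega), fld_shift_field]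
    split_ifs with h1 h2 h2
    · rw [h2, add_zero, show (1023 : ℕ) = 2 ^ 10 - 1 by norm_num, Nat.and_two_pow_sub_one_eq_mod,
        Nat.mod_eq_of_lt (fld_lt _ _)]
    · omega
    · omega
    · exact Nat.and_zero _
  rw [ofF_congr e]
  have e' : ∀ m, ofF (fun i => if i = 0 then fld A (k + 248 * j) else 0) (m + 1) = fld A (k + 248 * j) := by
    intro m
    induction m with
    | zero => simp [ofF]
    | succ m ih => rw [ofF, ih]; simp
  exact e' 247

theorem prod_eq {b : ℕ} (hb : b < RB) (g : ℕ → ℕ) (n : ℕ) :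
    ofR g n * b = ofF (fun q => g (q / 248) * fld b (q % 248)) (248 * n) := by
  rw [ofF_blocks, mul_comm, ofR_mul]
  refine ofR_congr fun j _ => ?_
  rw [← ofF_fld_of_lt hb, mul_comm, ofF_mul]
  refine ofF_congr fun i hi => ?_
  rw [ofF_fld_of_lt hb, show (248 * j + i) / 248 = j by omega, show (248 * j + i) % 248 = i by omega]

theorem goMul_eq (n A : ℕ) : ∀ (L : List ℕ) (k : ℕ), (∀ b ∈ L, b < RB) →
    goMul (Nat.mul 1023 (col1 n)) A L k = ofF (fun q => ∑ t ∈ Finset.range L.length,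
      fld A (k + t + 248 * (q / 248)) * fld (L.getD t 0) (q % 248)) (248 * n)
  | [], k, _ => by
    show 0 = _
    simp only [List.length_nil, Finset.range_zero, Finset.sum_empty]
    generalize 248 * n = m
    induction m with
    | zero => rfl
    | succ m ih => rw [ofF, ← ih]; simp
  | b :: L, k, h => by
    show (A >>> (10 * k) &&& (1023 * col1 n)) * b + goMul (Nat.mul 1023 (col1 n)) A L (k + 1) = _
    rw [goMul_eq n A L (k + 1) fun c hc => h c (List.mem_cons_of_mem b hc), sel_eq,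
      prod_eq (h b List.mem_cons_self), ofF_add]
    refine ofF_congr fun q _ => ?_
    rw [List.length_cons, Finset.sum_range_succ' _ L.length, add_comm]
    congr 1
    refine Finset.sum_congr rfl fun t _ => ?_
    rw [List.getD_cons_succ, show k + 1 + t = k + (t + 1) by omega]

/-- A step on one field. -/
def red1 (f : ℕ) : ℕ := (f &&& 3) + (f / 4 &&& 255)

/-- The last step on one field. -/
def fin1 (f : ℕ) : ℕ := f - 3 * ((f + 1) / 4 &&& 1)

theorem red_small : ∀ f < 1024, red1 f < 1024 ∧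
    red1 (red1 (red1 (red1 (red1 (red1 (red1 f)))))) ≤ 3 ∧
    fin1 (red1 (red1 (red1 (red1 (red1 (red1 (red1 f))))))) = f % 3 := by decide +kernel

theorem fld_rep {c : ℕ} (hc : c < 1024) {m q : ℕ} (hq : q < m) : fld (c * ofF (fun _ => 1) m) q = c := by
  rw [ofF_mul, mul_one, fld_ofF (fun _ _ => hc) hq]

theorem rep_lt {c : ℕ} (hc : c < 1024) (m : ℕ) : c * ofF (fun _ => 1) m < 1024 ^ m := by
  rw [ofF_mul, mul_one]
  exact ofF_lt fun _ _ => hc

theorem redStep_eq {m : ℕ} {f : ℕ → ℕ} (hf : ∀ q < m, f q < 1024) {lw : ℕ} (hl : lw = ofF (fun _ => 1) m) :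
    redStep (Nat.mul 3 lw) (Nat.mul 255 lw) (ofF f m) = ofF (fun q => red1 (f q)) m := by
  show (ofF f m &&& 3 * lw) + ((ofF f m) >>> 2 &&& 255 * lw) = _
  subst hl
  rw [← ofF_fld_of_lt (lt_of_le_of_lt Nat.and_le_right (rep_lt (by norm_num : 3 < 1024) m) :
      ofF f m &&& 3 * ofF (fun _ => 1) m < 1024 ^ m),
    ← ofF_fld_of_lt (lt_of_le_of_lt Nat.and_le_right (rep_lt (by norm_num : 255 < 1024) m) :
      (ofF f m) >>> 2 &&& 255 * ofF (fun _ => 1) m < 1024 ^ m), ofF_add]
  refine ofF_congr fun q hq => ?_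
  rw [fld_and, fld_and, fld_rep (by norm_num) hq, fld_rep (by norm_num) hq, fld_shift (by norm_num),
    fld_ofF hf hq]
  rfl

theorem ofF_sub {f g : ℕ → ℕ} : ∀ {m : ℕ}, (∀ q < m, g q ≤ f q) → ofF f m - ofF g m = ofF (fun q => f q - g q) m := by
  intro m h
  have e : ofF (fun q => f q - g q) m + ofF g m = ofF f m := by
    rw [ofF_add]
    exact ofF_congr fun q hq => Nat.sub_add_cancel (h q hq)
  omega

theorem redFin_eq {m : ℕ} {f : ℕ → ℕ} (hf : ∀ q < m, f q ≤ 3) {lw : ℕ} (hl : lw = ofF (fun _ => 1) m) :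
    redFin lw (ofF f m) = ofF (fun q => fin1 (f q)) m := by
  subst hl
  show ofF f m - 3 * ((ofF f m + ofF (fun _ => 1) m) >>> 2 &&& ofF (fun _ => 1) m) = _
  have h1 : ofF (fun _ => (1 : ℕ)) m < 1024 ^ m := ofF_lt fun _ _ => by norm_num
  rw [ofF_add, ← ofF_fld_of_lt (lt_of_le_of_lt Nat.and_le_right h1 :
      (ofF (fun q => f q + 1) m) >>> 2 &&& ofF (fun _ => 1) m < 1024 ^ m), ofF_mul]
  have e : ∀ q < m, 3 * fld ((ofF (fun q => f q + 1) m) >>> 2 &&& ofF (fun _ => 1) m) q =
      3 * ((f q + 1) / 4 &&& 1) := by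
    intro q hq
    rw [fld_and, fld_ofF (fun _ _ => by norm_num) hq, fld_shift (by norm_num),
      fld_ofF (fun q hq => by have := hf q hq; omega) hq]
  rw [ofF_congr e, ofF_sub fun q hq => ?_]
  · rfl
  · have h3 : ∀ x ≤ 3, 3 * ((x + 1) / 4 &&& 1) ≤ x := by decide
    exact h3 _ (hf q hq)

theorem redAll_eq {m : ℕ} {f : ℕ → ℕ} (hf : ∀ q < m, f q < 1024) {lw : ℕ} (hl : lw = ofF (fun _ => 1) m) :
    redAll lw (ofF f m) = ofF (fun q => f q % 3) m := by
  have h := fun q hq => red_small (f q) (hf q hq)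
  have b1 : ∀ q < m, red1 (f q) < 1024 := fun q hq => (red_small _ (hf q hq)).1
  have b2 : ∀ q < m, red1 (red1 (f q)) < 1024 := fun q hq => (red_small _ (b1 q hq)).1
  have b3 : ∀ q < m, red1 (red1 (red1 (f q))) < 1024 := fun q hq => (red_small _ (b2 q hq)).1
  have b4 : ∀ q < m, red1 (red1 (red1 (red1 (f q)))) < 1024 := fun q hq => (red_small _ (b3 q hq)).1
  have b5 : ∀ q < m, red1 (red1 (red1 (red1 (red1 (f q))))) < 1024 := fun q hq => (red_small _ (b4 q hq)).1
  have b6 : ∀ q < m, red1 (red1 (red1 (red1 (red1 (red1 (f q)))))) < 1024 := fun q hq => (red_small _ (b5 q hq)).1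
  simp only [redAll]
  rw [redStep_eq hf hl, redStep_eq b1 hl, redStep_eq b2 hl, redStep_eq b3 hl, redStep_eq b4 hl, redStep_eq b5 hl,
    redStep_eq b6 hl, redFin_eq (fun q hq => (h q hq).2.1) hl]
  exact ofF_congr fun q hq => (h q hq).2.2

theorem prodG_spec {n A : ℕ} {L : List ℕ} (hlen : L.length ≤ 248) (hA : ∀ q, fld A q ≤ 2)
    (hL : ∀ b ∈ L, RedN 248 b) : RedN (248 * n) (prodG n A L) ∧ ∀ j < n, ∀ i < 248,
      ((fld (prodG n A L) (248 * j + i) : ℕ) : ZMod 3) =
        ∑ t ∈ Finset.range L.length, (fld A (248 * j + t) : ZMod 3) * (fld (L.getD t 0) i : ZMod 3) := by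
  set F : ℕ → ℕ := fun q => ∑ t ∈ Finset.range L.length,
    fld A (0 + t + 248 * (q / 248)) * fld (L.getD t 0) (q % 248) with hF
  have hb : ∀ q, F q < 1024 := by
    intro q
    refine lt_of_le_of_lt (Finset.sum_le_card_nsmul _ _ 4 fun t ht => ?_) ?_
    · rw [List.getD_eq_getElem _ _ (Finset.mem_range.1 ht)]
      exact Nat.mul_le_mul (hA _) ((hL _ (List.getElem_mem _)).2 _ (Nat.mod_lt _ (by norm_num)))
    · rw [Finset.card_range, smul_eq_mul]
      omega
  have e : prodG n A L = ofF (fun q => F q % 3) (248 * n) := by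
    rw [prodG, goMul_eq n A L 0 fun b hb => (hL b hb).1]
    exact redAll_eq (fun q _ => hb q) (lowAll_eq n)
  have hs : ∀ q < 248 * n, F q % 3 < 1024 := fun q _ => lt_trans (Nat.mod_lt _ (by norm_num)) (by norm_num)
  refine ⟨⟨e ▸ ofF_lt hs, fun q hq => by rw [e, fld_ofF hs hq]; omega⟩, fun j hj i hi => ?_⟩
  rw [e, fld_ofF hs (by omega), ZMod.natCast_mod, hF]
  simp only [show (248 * j + i) / 248 = j by omega, show (248 * j + i) % 248 = i by omega, Nat.zero_add]
  push_cast
  exact Finset.sum_congr rfl fun t _ => by rw [add_comm]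

end Cfsg.Lib.ThRep
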