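import Cfsg.Agent.ThRep.Order

/-!
The subgroup of index 143127000 is maximal.
-/

set_option autoImplicit false
set_option maxRecDepth 100000

namespace Cfsg.Lib.ThRep

open Cfsg Cfsg.Lib.ThCert

/-- The sums of sublists. -/
def subSums : List ℕ → List ℕ
  | [] => [0]
  | x :: l => let S := subSums l; S ++ S.map (x + ·)

/-- The size of an orbit. -/
def orbSize (n : ℕ) : ℕ := 634023936 / covOrd n

theorem subSums_ok : ((subSums ((List.range 10).map fun i => orbSize (i + 1))).all fun t =>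
    Nat.beq t 0 || Nat.beq (t + 1) 143127000 || !Nat.beq (143127000 % (t + 1)) 0) = true := by
  decide +kernel

theorem mem_subSums (p : ℕ → Bool) (f : ℕ → ℕ) : ∀ l : List ℕ,
    (l.map fun n => if p n then f n else 0).sum ∈ subSums (l.map f)
  | [] => by simp [subSums]
  | x :: l => by
    have ih := mem_subSums p f l
    cases h : p x
    · simp [subSums, h, ih]
    · simp only [List.map_cons, List.sum_cons, h, if_true, subSums, List.mem_append, List.mem_map]
      exact Or.inr ⟨_, ih, rfl⟩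

/-- An orbit in the cosets. -/
noncomputable def orbMap (n : ℕ) : P ⧸ cosStab n → Spor.Th ⧸ Kth :=
  Quotient.lift (fun a => ((fTh a * (vv n)⁻¹ : Spor.Th) : Spor.Th ⧸ Kth)) fun a b hab => by
    have h : vv n * fTh (a⁻¹ * b) * (vv n)⁻¹ ∈ Kth := QuotientGroup.leftRel_apply.1 hab
    refine QuotientGroup.eq.2 ?_
    rwa [show (fTh a * (vv n)⁻¹)⁻¹ * (fTh b * (vv n)⁻¹) = vv n * fTh (a⁻¹ * b) * (vv n)⁻¹ by
      rw [map_mul, map_inv]; group]

theorem maximal_Kth {M : Subgroup Spor.Th} (hM : Kth ≤ M) : M = Kth ∨ M = ⊤ := by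
  classical
  obtain ⟨hfin, -, hidx, -⟩ := th_facts
  have := hfin
  have : Finite P := card_P_le.1
  have hQ : Nat.card (Spor.Th ⧸ Kth) = 143127000 := hidx
  let Φ : (Σ n : Fin 11, P ⧸ cosStab n.val) → Spor.Th ⧸ Kth := fun z => orbMap z.1.val z.2
  have hsurj : Function.Surjective Φ := fun q => by
    refine Quotient.inductionOn' q fun g => ?_
    obtain ⟨n, hn, a, e⟩ := all_InO g⁻¹
    refine ⟨⟨⟨n, hn⟩, ((a⁻¹ : P) : P ⧸ cosStab n)⟩, QuotientGroup.eq.2 ?_⟩
    have e' : g⁻¹ * (vv n * fTh a)⁻¹ ∈ Kth := e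
    rw [← inv_mem_iff]
    rwa [show ((fTh a⁻¹ * (vv n)⁻¹)⁻¹ * g)⁻¹ = g⁻¹ * (vv n * fTh a)⁻¹ by rw [map_inv]; group]
  have hle : ∀ n : Fin 11, Nat.card (P ⧸ cosStab n.val) ≤ orbSize n.val := fun n => by
    obtain ⟨h1, h2⟩ := (cov_facts n.val n.2).1
    have h3 := Subgroup.card_mul_index (cosStab n.val)
    rw [card_P] at h3
    show (cosStab n.val).index ≤ _
    rw [orbSize, Nat.le_div_iff_mul_le h1, ← h3, mul_comm]
    exact Nat.mul_le_mul_right _ h2
  have hsum : ∑ n : Fin 11, orbSize n.val = 143127000 := by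
    rw [Fin.sum_univ_eq_sum_range orbSize 11]; exact covOrd_sum
  have hc := Nat.card_le_card_of_surjective Φ hsurj
  rw [Nat.card_sigma, hQ] at hc
  have heq : ∀ n : Fin 11, Nat.card (P ⧸ cosStab n.val) = orbSize n.val := fun n =>
    ((Finset.sum_eq_sum_iff_of_le (f := fun n : Fin 11 => Nat.card (P ⧸ cosStab n.val))
      (g := fun n : Fin 11 => orbSize n.val) (fun i _ => hle i)).1
      (le_antisymm (Finset.sum_le_sum fun i _ => hle i) (hsum ▸ hc))) n (Finset.mem_univ n)
  have hbij : Function.Bijective Φ := (Nat.bijective_iff_surjective_and_card Φ).2 ⟨hsurj, by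
    rw [Nat.card_sigma, hQ, ← hsum]
    exact Finset.sum_congr rfl fun n _ => heq n⟩
  have hset : ∀ z, Φ z ∈ (QuotientGroup.mk '' (M : Set Spor.Th)) ↔ vv z.1.val ∈ M := by
    rintro ⟨n, q⟩
    refine Quotient.inductionOn' q fun a => ?_
    have ha : fTh a ∈ M := hM ⟨a, rfl⟩
    show ((fTh a * (vv n.val)⁻¹ : Spor.Th) : Spor.Th ⧸ Kth) ∈ _ ↔ _
    constructor
    · rintro ⟨g, hg, e⟩
      rw [QuotientGroup.eq] at e
      have h1 := M.mul_mem hg (hM e)
      rw [mul_inv_cancel_left] at h1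
      have h2 := M.mul_mem (M.inv_mem ha) h1
      rw [inv_mul_cancel_left] at h2
      exact inv_mem_iff.1 h2
    · intro hv
      exact ⟨_, M.mul_mem ha (M.inv_mem hv), rfl⟩
  have hcardM : Kth.relIndex M = ∑ n : Fin 11, if vv n.val ∈ M then orbSize n.val else 0 := by
    let ι : M ⧸ Kth.subgroupOf M → Spor.Th ⧸ Kth := Quotient.map' Subtype.val fun a b hab => by
      rw [QuotientGroup.leftRel_apply] at hab ⊢
      exact hab
    have hι : Function.Injective ι := by
      intro q q'
      refine Quotient.inductionOn₂' q q' fun a b h => Quotient.sound' ?_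
      rw [QuotientGroup.leftRel_apply, Subgroup.mem_subgroupOf]
      have h' : ((a.1 : Spor.Th) : Spor.Th ⧸ Kth) = (b.1 : Spor.Th) := h
      simpa using QuotientGroup.eq.1 h'
    have hr : Set.range ι = QuotientGroup.mk '' (M : Set Spor.Th) := by
      ext q
      constructor
      · rintro ⟨x, rfl⟩
        refine Quotient.inductionOn' x fun g => ?_
        exact ⟨g.1, g.2, rfl⟩
      · rintro ⟨g, hg, rfl⟩
        exact ⟨((⟨g, hg⟩ : M) : M ⧸ Kth.subgroupOf M), rfl⟩
    let e : {z : Σ n : Fin 11, P ⧸ cosStab n.val // vv z.1.val ∈ M} ≃ Set.range ι :=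
      (Equiv.ofBijective Φ hbij).subtypeEquiv fun z => by rw [hr]; exact (hset z).symm
    let e2 : {z : Σ n : Fin 11, P ⧸ cosStab n.val // vv z.1.val ∈ M} ≃
        Σ n : {n : Fin 11 // vv n.val ∈ M}, P ⧸ cosStab n.1.val :=
      { toFun := fun z => ⟨⟨z.1.1, z.2⟩, z.1.2⟩
        invFun := fun z => ⟨⟨z.1.1, z.2⟩, z.1.2⟩
        left_inv := fun z => rfl
        right_inv := fun z => rfl }
    rw [Subgroup.relIndex, Subgroup.index, ← Nat.card_range_of_injective hι, ← Nat.card_congr e, Nat.card_congr e2,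
      Nat.card_sigma, ← Finset.sum_filter, ← Finset.sum_subtype_eq_sum_filter]
    refine Finset.sum_congr (by ext n; simp) fun n _ => heq _
  have hdvd : Kth.relIndex M ∣ 143127000 := hidx ▸ Subgroup.relIndex_dvd_index_of_le hM
  set T := ((List.range 10).map fun i => if vv (i + 1) ∈ M then orbSize (i + 1) else 0).sum with hT
  have hrel : Kth.relIndex M = T + 1 := by
    rw [hcardM, Fin.sum_univ_eq_sum_range (fun n => if vv n ∈ M then orbSize n else 0) 11, Finset.sum_range_succ',
      if_pos (by rw [vv_zero]; exact M.one_mem)]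
    rfl
  have hmem : T ∈ subSums ((List.range 10).map fun i => orbSize (i + 1)) := by
    have h := mem_subSums (fun i => decide (vv (i + 1) ∈ M)) (fun i => orbSize (i + 1)) (List.range 10)
    simp only [decide_eq_true_eq] at h
    exact h
  have hok := List.all_eq_true.1 subSums_ok _ hmem
  simp only [Bool.or_eq_true, Bool.not_eq_true'] at hok
  rcases hok with (h | h) | h
  · refine Or.inl (le_antisymm (Subgroup.relIndex_eq_one.1 ?_) hM)
    rw [hrel, Nat.eq_of_beq_eq_true h]
  · refine Or.inr ?_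
    have h2 := Subgroup.relIndex_mul_index hM
    rw [hrel, Nat.eq_of_beq_eq_true h, hidx] at h2
    exact Subgroup.index_eq_one.1 (by omega)
  · rw [hrel] at hdvd
    exact absurd (Nat.mod_eq_zero_of_dvd hdvd) (Nat.ne_of_beq_eq_false h)

end Cfsg.Lib.ThRep
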