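import Cfsg.Agent.ThRep.Letters
import Cfsg.Agent.ThCert.Words

/-!
The relators hold for the matrices of size 248.
-/

set_option autoImplicit false
set_option maxRecDepth 100000
set_option exponentiation.threshold 3000
set_option Elab.async false

namespace Cfsg.Lib.ThRep

open Cfsg.Lib.ThCert (thWords)

/-- The check of one relator. -/
noncomputable def relOK (i : ℕ) : Bool :=
  (thWords.getD i []).all (fun x => Nat.blt x 16) && Nat.beq (wmat (thWords.getD i [])) one248

theorem rel_chk0 : ∀ k < 12, relOK (0 + k) = true := by decide +kernel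

theorem rel_chk1 : ∀ k < 3, relOK (12 + k) = true := by decide +kernel

theorem rel_chk2 : ∀ k < 10, relOK (15 + k) = true := by decide +kernel

theorem rel_chk3 : ∀ k < 8, relOK (25 + k) = true := by decide +kernel

theorem rel_chk4 : ∀ k < 3, relOK (33 + k) = true := by decide +kernel

theorem rel_chk5 : ∀ k < 2, relOK (36 + k) = true := by decide +kernel

theorem rel_chk6 : ∀ k < 1, relOK (38 + k) = true := by decide +kernel

theorem rel_one {w : List ℕ} (hw : w ∈ thWords) : (w.map letGL).prod = 1 := by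
  obtain ⟨i, hi, rfl⟩ := List.getElem_of_mem hw
  have hi' : i < 39 := hi.trans_eq (by decide +kernel)
  have h : relOK i = true := by
    by_cases h0 : i < 12
    · obtain ⟨k, rfl⟩ : ∃ k, i = 0 + k := ⟨i - 0, by omega⟩
      exact rel_chk0 k (by omega)
    by_cases h1 : i < 15
    · obtain ⟨k, rfl⟩ : ∃ k, i = 12 + k := ⟨i - 12, by omega⟩
      exact rel_chk1 k (by omega)
    by_cases h2 : i < 25
    · obtain ⟨k, rfl⟩ : ∃ k, i = 15 + k := ⟨i - 15, by omega⟩
      exact rel_chk2 k (by omega)
    by_cases h3 : i < 33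
    · obtain ⟨k, rfl⟩ : ∃ k, i = 25 + k := ⟨i - 25, by omega⟩
      exact rel_chk3 k (by omega)
    by_cases h4 : i < 36
    · obtain ⟨k, rfl⟩ : ∃ k, i = 33 + k := ⟨i - 33, by omega⟩
      exact rel_chk4 k (by omega)
    by_cases h5 : i < 38
    · obtain ⟨k, rfl⟩ : ∃ k, i = 36 + k := ⟨i - 36, by omega⟩
      exact rel_chk5 k (by omega)
    obtain ⟨k, rfl⟩ : ∃ k, i = 38 + k := ⟨i - 38, by omega⟩
    exact rel_chk6 k (by omega)
  rw [relOK, List.getD_eq_getElem _ _ hi, Bool.and_eq_true] at h
  exact wmat_one (fun x hx => by simpa using List.all_eq_true.1 h.1 x hx) h.2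

end Cfsg.Lib.ThRep
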