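import Cfsg.Agent.ThRep.RelChk
import Cfsg.Agent.ThCert.Group

/-!
The representation of the presented group by matrices of size 248 over the field with three elements.
-/

set_option autoImplicit false
set_option maxRecDepth 100000

namespace Cfsg.Lib.ThRep

open Cfsg Cfsg.Lib.ThCert

/-- The place of a generator in the list. -/
def genIdx : Spor.Th.Gen → ℕ
  | .a => 0
  | .b => 1
  | .c => 2
  | .d => 3
  | .e => 4
  | .s => 5
  | .t => 6
  | .u => 7

/-- The matrix of a generator. -/
def vGen (g : Spor.Th.Gen) : GL (Fin 248) (ZMod 3) := letGL (2 * genIdx g)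

theorem genIdx_getD {i : ℕ} (hi : i < 8) : genIdx (genList.getD i .a) = i := by
  interval_cases i <;> rfl

theorem letGL_inv {x : ℕ} (hx : x < 16) : (letGL x)⁻¹ = letGL (invLet x) := by
  refine inv_eq_of_mul_eq_one_right (Units.ext ?_)
  rw [Units.val_mul, letGL_val hx, letGL_val (invLet_lt hx).1, rows_mul_inv hx]
  rfl

theorem signed_vGen {x : ℕ} (hx : x < 16) : signed vGen x = letGL x := by
  unfold signed vGen
  rw [genIdx_getD (by omega : x / 2 < 8)]
  rcases Nat.mod_two_eq_zero_or_one x with h | h
  · rw [if_pos h, show 2 * (x / 2) = x by omega]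
  · rw [if_neg (by omega), letGL_inv (by omega), invLet, if_pos (Nat.mul_mod_right 2 _),
      show 2 * (x / 2) + 1 = x by omega]

theorem word_vGen {w : List ℕ} (hw : ∀ x ∈ w, x < 16) :
    wordVal (signed vGen) w = (w.map letGL).prod :=
  congrArg List.prod (List.map_congr_left fun x hx => signed_vGen (hw x hx))

theorem thWords_small : ∀ w ∈ thWords, ∀ x ∈ w, x < 16 := by decide +kernel

theorem vGen_ok : ∀ r ∈ thRels, FreeGroup.lift vGen r = 1 := by
  rintro r (hr | hr)
  · obtain ⟨x, hx, _⟩ := hr
    exact absurd hx (List.not_mem_nil)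
  · have hr' : r ∈ Spor.Th.extra := hr
    rw [extra_eq] at hr'
    obtain ⟨w, hw, rfl⟩ := List.mem_map.1 hr'
    rw [wordVal_map, funext (fun x => signed_map (FreeGroup.lift vGen) FreeGroup.of x)]
    simp only [FreeGroup.lift_apply_of]
    rw [word_vGen (thWords_small w hw)]
    exact rel_one hw

/-- The representation. -/
def rho : Spor.Th →* GL (Fin 248) (ZMod 3) := PresentedGroup.toGroup vGen_ok

theorem rho_tgen (g : Spor.Th.Gen) : rho (tgen g) = vGen g := PresentedGroup.toGroup.of vGen_ok

/-- The element of a word. -/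
def thEl (w : List ℕ) : Spor.Th := wordVal (signed tgen) w

theorem rho_thEl {w : List ℕ} (hw : ∀ x ∈ w, x < 16) : rho (thEl w) = (w.map letGL).prod := by
  rw [thEl, wordVal_map, funext (fun x => signed_map rho tgen x)]
  simp only [rho_tgen]
  exact word_vGen hw

end Cfsg.Lib.ThRep
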