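import Cfsg.Agent.ThRep.Mat3

/-!
Packed numbers as matrices over the field with three elements.
-/

set_option autoImplicit false
set_option exponentiation.threshold 3000

namespace Cfsg.Lib.ThRep

/-- A packed number as some rows. -/
def toMN (n x : ℕ) : Matrix (Fin n) (Fin 248) (ZMod 3) :=
  fun j i => ((fld x (248 * j.val + i.val) : ℕ) : ZMod 3)

/-- A list of rows as a matrix. -/
def rowsM (L : List ℕ) : Matrix (Fin 248) (Fin 248) (ZMod 3) :=
  fun j i => ((fld (L.getD j.val 0) i.val : ℕ) : ZMod 3)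

/-- Whether a packed number is reduced. -/
def redOK (n x : ℕ) : Bool :=
  Nat.beq (Nat.shiftRight x (Nat.mul 2480 n)) 0 && Nat.beq (redAll (lowAll n) x) x

theorem RedN.fld_le {n x : ℕ} (h : RedN n x) (q : ℕ) : fld x q ≤ 2 := by
  by_cases hq : q < n
  · exact h.2 q hq
  · rw [fld_of_big (lt_of_lt_of_le h.1 (Nat.pow_le_pow_right (by norm_num) (not_lt.1 hq)))]
    exact Nat.zero_le 2

theorem redOK_sound {n x : ℕ} (h : redOK n x = true) : RedN (248 * n) x := by
  rw [redOK, Bool.and_eq_true] at h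
  have h1 : x >>> (2480 * n) = 0 := Nat.eq_of_beq_eq_true h.1
  have hlt : x < 1024 ^ (248 * n) := by
    rw [Nat.shiftRight_eq_div_pow, Nat.div_eq_zero_iff] at h1
    rcases h1 with h1 | h1
    · exact absurd h1 (by positivity)
    · rw [show (1024 : ℕ) = 2 ^ 10 by norm_num, ← pow_mul, show 10 * (248 * n) = 2480 * n by ring]
      exact h1
  refine ⟨hlt, fun q hq => ?_⟩
  have e : redAll (lowAll n) x = x := Nat.eq_of_beq_eq_true h.2
  have r : redAll (lowAll n) (ofF (fld x) (248 * n)) = ofF (fun q => fld x q % 3) (248 * n) :=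
    redAll_eq (fun q _ => fld_lt x q) (lowAll_eq n)
  rw [ofF_fld_of_lt hlt, e] at r
  rw [r, fld_ofF (fun q _ => lt_trans (Nat.mod_lt _ (by norm_num)) (by norm_num)) hq]
  exact Nat.lt_succ_iff.1 (Nat.mod_lt _ (by norm_num))

theorem toMN_prod {n A : ℕ} {L : List ℕ} (hlen : L.length = 248) (hA : RedN (248 * n) A)
    (hL : ∀ b ∈ L, RedN 248 b) :
    RedN (248 * n) (prodG n A L) ∧ toMN n (prodG n A L) = toMN n A * rowsM L := by
  obtain ⟨h1, h2⟩ := prodG_spec (n := n) (le_of_eq hlen) hA.fld_le hL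
  refine ⟨h1, ?_⟩
  funext j i
  show ((fld (prodG n A L) (248 * j.val + i.val) : ℕ) : ZMod 3) = _
  rw [h2 j.val j.isLt i.val i.isLt, hlen, Matrix.mul_apply, ← Fin.sum_univ_eq_sum_range
    (fun t => ((fld A (248 * j.val + t) : ℕ) : ZMod 3) * ((fld (L.getD t 0) i.val : ℕ) : ZMod 3)) 248]
  rfl

theorem toMN_inj {n x y : ℕ} (hx : RedN (248 * n) x) (hy : RedN (248 * n) y) (h : toMN n x = toMN n y) :
    x = y := by
  rw [← ofF_fld_of_lt hx.1, ← ofF_fld_of_lt hy.1]
  refine ofF_congr fun q hq => ?_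
  have e : ((fld x (248 * (q / 248) + q % 248) : ℕ) : ZMod 3) =
      ((fld y (248 * (q / 248) + q % 248) : ℕ) : ZMod 3) :=
    congrFun (congrFun h ⟨q / 248, Nat.div_lt_of_lt_mul hq⟩) ⟨q % 248, Nat.mod_lt _ (by norm_num)⟩
  rw [Nat.div_add_mod, ZMod.natCast_eq_natCast_iff'] at e
  have a1 := hx.fld_le q
  have a2 := hy.fld_le q
  omega

theorem ofR_succ (g : ℕ → ℕ) : ∀ n, ofR g (n + 1) = g 0 + ofR (fun k => g (k + 1)) n * RB
  | 0 => by simp [ofR]
  | n + 1 => by
    rw [ofR, ofR_succ g n, ofR, pow_succ]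
    ring

theorem packRows_eq : ∀ L : List ℕ, packRows L = ofR (fun k => L.getD k 0) L.length
  | [] => rfl
  | r :: l => by
    show r + (packRows l) <<< 2480 = _
    rw [packRows_eq l, List.length_cons, ofR_succ, List.getD_cons_zero, Nat.shiftLeft_eq, RB,
      show (1024 : ℕ) = 2 ^ 10 by norm_num, ← pow_mul, show 10 * 248 = 2480 by norm_num]
    simp only [List.getD_cons_succ]

theorem packRows_spec {L : List ℕ} (hL : ∀ b ∈ L, RedN 248 b) :
    RedN (248 * L.length) (packRows L) ∧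
      ∀ q < 248 * L.length, fld (packRows L) q = fld (L.getD (q / 248) 0) (q % 248) := by
  have hd : ∀ j < L.length, RedN 248 (L.getD j 0) := fun j hj => by
    rw [List.getD_eq_getElem _ _ hj]
    exact hL _ (List.getElem_mem _)
  have e : packRows L = ofF (fun q => fld (L.getD (q / 248) 0) (q % 248)) (248 * L.length) := by
    rw [packRows_eq, ofF_blocks]
    refine ofR_congr fun j hj => ?_
    refine ((ofF_congr fun i hi => ?_).trans (ofF_fld_of_lt (hd j hj).1)).symm
    rw [show (248 * j + i) / 248 = j by omega, show (248 * j + i) % 248 = i by omega]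
  have hb : ∀ q < 248 * L.length, fld (L.getD (q / 248) 0) (q % 248) < 1024 := fun q _ => fld_lt _ _
  refine ⟨⟨e ▸ ofF_lt hb, fun q hq => ?_⟩, fun q hq => by rw [e, fld_ofF hb hq]⟩
  rw [e, fld_ofF hb hq]
  exact (hd _ (Nat.div_lt_of_lt_mul hq)).2 _ (Nat.mod_lt _ (by norm_num))

theorem packRows_mat {L : List ℕ} (hlen : L.length = 248) (hL : ∀ b ∈ L, RedN 248 b) :
    RedN (248 * 248) (packRows L) ∧ toMN 248 (packRows L) = rowsM L := by
  obtain ⟨h1, h2⟩ := packRows_spec hL
  rw [hlen] at h1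
  refine ⟨h1, ?_⟩
  funext j i
  have hj := j.isLt
  have hi := i.isLt
  show ((fld (packRows L) (248 * j.val + i.val) : ℕ) : ZMod 3) = ((fld (L.getD j.val 0) i.val : ℕ) : ZMod 3)
  rw [h2 _ (by rw [hlen]; omega), show (248 * j.val + i.val) / 248 = j.val by omega,
    show (248 * j.val + i.val) % 248 = i.val by omega]

/-- The row with one entry. -/
def unitRow (i : ℕ) : ℕ := Nat.shiftLeft 1 (Nat.mul 10 i)

/-- The rows of the identity. -/
def oneRows : List ℕ := (List.range 248).map unitRow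

/-- The identity. -/
def one248 : ℕ := packRows oneRows

theorem fld_unitRow (i k : ℕ) : fld (unitRow i) k = if i = k then 1 else 0 := by
  have e : unitRow i = 1024 ^ i := by
    show 1 <<< (10 * i) = _
    rw [Nat.shiftLeft_eq, one_mul, pow_mul]
    norm_num
  rw [e, fld]
  rcases lt_trichotomy i k with h | h | h
  · rw [if_neg h.ne, Nat.div_eq_of_lt (Nat.pow_lt_pow_right (by norm_num) h), Nat.zero_mod]
  · rw [if_pos h, h, Nat.div_self (by positivity)]
  · rw [if_neg (ne_of_gt h), Nat.pow_div h.le (by norm_num)]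
    obtain ⟨d, hd⟩ : ∃ d, i - k = d + 1 := ⟨i - k - 1, by omega⟩
    rw [hd, pow_succ, Nat.mul_mod_left]

theorem oneRows_red : ∀ b ∈ oneRows, RedN 248 b := by
  intro b hb
  obtain ⟨i, hi, rfl⟩ := List.mem_map.1 hb
  refine ⟨?_, fun q _ => by rw [fld_unitRow]; split_ifs <;> norm_num⟩
  show 1 <<< (10 * i) < _
  rw [Nat.shiftLeft_eq, one_mul, pow_mul, show (2 : ℕ) ^ 10 = 1024 by norm_num]
  exact Nat.pow_lt_pow_right (by norm_num) (List.mem_range.1 hi)

theorem one248_spec : RedN (248 * 248) one248 ∧ toMN 248 one248 = 1 := by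
  have hlen : oneRows.length = 248 := by simp [oneRows]
  obtain ⟨h1, h2⟩ := packRows_mat hlen oneRows_red
  refine ⟨h1, h2.trans ?_⟩
  funext j i
  have e : oneRows.getD j.val 0 = unitRow j.val := by
    rw [List.getD_eq_getElem _ _ (by rw [hlen]; exact j.isLt)]
    simp [oneRows]
  show ((fld (oneRows.getD j.val 0) i.val : ℕ) : ZMod 3) = _
  rw [e, fld_unitRow, Matrix.one_apply]
  by_cases h : j = i
  · simp [h]
  · rw [if_neg h, if_neg (fun h' => h (Fin.ext h'))]
    simp

end Cfsg.Lib.ThRep
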