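import Cfsg.Agent.ThRep.Rep

/-!
Certificates for series with steps of prime index.
-/

set_option autoImplicit false
set_option maxRecDepth 100000
set_option exponentiation.threshold 3000

namespace Cfsg.Lib.ThRep

/-- The subgroup of the first members of a sequence. -/
def headSub {G : Type*} [Group G] (g : ℕ → G) (n : ℕ) : Subgroup G := Subgroup.closure (g '' Set.Iio n)

theorem step_card {G : Type*} [Group G] [Finite G] {p : ℕ} (hp : p.Prime) (H : Subgroup G) (x : G) (S : Set G)
    (hH : H = Subgroup.closure S) (hx : x ^ p ∈ H) (hn : ∀ s ∈ S, x⁻¹ * s * x ∈ H) (hout : x ∉ H) :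
    Nat.card (Subgroup.closure (insert x S)) = p * Nat.card H := by
  set K := Subgroup.closure (insert x S) with hK
  have hle : H ≤ K := hH ▸ Subgroup.closure_mono (Set.subset_insert x S)
  have hxK : x ∈ K := Subgroup.subset_closure (Set.mem_insert x S)
  have hmap : H.map (MulAut.conj x⁻¹).toMonoidHom ≤ H := by
    conv_lhs => rw [hH]
    rw [MonoidHom.map_closure, Subgroup.closure_le]
    rintro _ ⟨s, hs, rfl⟩
    simpa [MulAut.conj_apply] using hn s hs
  have heq := Subgroup.eq_of_le_of_card_ge hmap (le_of_eq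
    (Subgroup.card_map_of_injective (MulAut.conj x⁻¹).injective).symm)
  have hxN : x⁻¹ ∈ Subgroup.normalizer (H : Set G) := by
    rw [Subgroup.mem_normalizer_iff]
    intro h
    constructor
    · intro hh
      have : (MulAut.conj x⁻¹).toMonoidHom h ∈ H.map (MulAut.conj x⁻¹).toMonoidHom := ⟨h, hh, rfl⟩
      rw [heq] at this
      simpa [MulAut.conj_apply] using this
    · intro hh
      rw [← heq] at hh
      obtain ⟨y, hy, e⟩ := hh
      rw [← (MulAut.conj x⁻¹).injective (a₁ := y) (a₂ := h) (by simpa [MulAut.conj_apply] using e)]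
      exact hy
  have hKN : K ≤ Subgroup.normalizer (H : Set G) := by
    rw [hK, Subgroup.closure_le]
    refine Set.insert_subset (inv_inv x ▸ inv_mem hxN) fun s hs => Subgroup.le_normalizer ?_
    rw [hH]
    exact Subgroup.subset_closure hs
  have hnorm : (H.subgroupOf K).Normal := ⟨fun n hn g => by
    rw [Subgroup.mem_subgroupOf] at hn ⊢
    exact (Subgroup.mem_normalizer_iff.1 (hKN g.2) _).1 hn⟩
  set y : K ⧸ H.subgroupOf K := ((⟨x, hxK⟩ : K) : K ⧸ H.subgroupOf K) with hy
  have hgen : ∀ z : K ⧸ H.subgroupOf K, z ∈ Subgroup.zpowers y := by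
    refine fun z => QuotientGroup.induction_on z fun k => ?_
    obtain ⟨k, hk⟩ := k
    induction hk using Subgroup.closure_induction with
    | mem g hg =>
      rcases Set.mem_insert_iff.1 hg with rfl | hs
      · exact Subgroup.mem_zpowers y
      · rw [(QuotientGroup.eq_one_iff _).2 (Subgroup.mem_subgroupOf.2 (hH ▸ Subgroup.subset_closure hs : g ∈ H))]
        exact one_mem _
    | one => exact one_mem _
    | mul a b ha hb iha ihb => exact Subgroup.mul_mem _ iha ihb
    | inv a ha iha => exact Subgroup.inv_mem _ iha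
  have hord : orderOf y = p := by
    have := Fact.mk hp
    refine orderOf_eq_prime ?_ fun h => hout (Subgroup.mem_subgroupOf.1 ((QuotientGroup.eq_one_iff _).1 h))
    rw [hy, ← QuotientGroup.mk_pow]
    exact (QuotientGroup.eq_one_iff _).2 (Subgroup.mem_subgroupOf.2 (by simpa using hx))
  have hcard : Nat.card (K ⧸ H.subgroupOf K) = p := by
    rw [← hord, ← Nat.card_zpowers, (Subgroup.eq_top_iff' _).2 hgen, Subgroup.card_top]
  rw [Subgroup.card_eq_card_quotient_mul_card_subgroup (H.subgroupOf K), hcard,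
    Nat.card_congr (Subgroup.subgroupOfEquivOfLe hle).toEquiv]

theorem series_card {G : Type*} [Group G] [Finite G] {p : ℕ} (hp : p.Prime) (g : ℕ → G) : ∀ n,
    (∀ i < n, g i ^ p ∈ headSub g i ∧ (∀ j < i, (g i)⁻¹ * g j * g i ∈ headSub g i) ∧ g i ∉ headSub g i) →
      Nat.card (headSub g n) = p ^ n
  | 0, _ => by simp [headSub]
  | n + 1, h => by
    obtain ⟨h1, h2, h3⟩ := h n n.lt_succ_self
    have e : g '' Set.Iio (n + 1) = insert (g n) (g '' Set.Iio n) := by
      rw [← Set.image_insert_eq]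
      congr 1
      ext i
      simp only [Set.mem_Iio, Set.mem_insert_iff]
      omega
    rw [pow_succ', ← series_card hp g n fun i hi => h i (by omega), headSub, e]
    refine step_card hp _ _ _ rfl h1 ?_ h3
    rintro _ ⟨j, hj, rfl⟩
    exact h2 j hj

/-- The rows of a packed matrix. -/
abbrev rws (A : ℕ) : List ℕ := rowsFrom A 0 248

theorem rowsFrom_length (A : ℕ) : ∀ m k, (rowsFrom A k m).length = m
  | 0, _ => rfl
  | m + 1, k => by
    show (rowsFrom A (k + 1) m).length + 1 = m + 1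
    rw [rowsFrom_length A m]

theorem rowsFrom_getD (A : ℕ) : ∀ m k t, t < m →
    (rowsFrom A k m).getD t 0 = (A >>> (2480 * (k + t))) % 2 ^ 2480
  | 0, _, _, h => absurd h (Nat.not_lt_zero _)
  | m + 1, k, 0, _ => by
    show Nat.land (A >>> (2480 * k)) ((1 <<< 2480) - 1) = _
    rw [Nat.one_shiftLeft]
    exact Nat.and_two_pow_sub_one_eq_mod _ _
  | m + 1, k, t + 1, h => by
    show (rowsFrom A (k + 1) m).getD t 0 = _
    rw [rowsFrom_getD A m (k + 1) t (by omega), show k + 1 + t = k + (t + 1) by omega]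

theorem rws_spec {A : ℕ} (hA : RedN (248 * 248) A) :
    (∀ b ∈ rws A, RedN 248 b) ∧ rowsM (rws A) = toMN 248 A := by
  have hf : ∀ t i, t < 248 → i < 248 → fld ((rws A).getD t 0) i = fld A (248 * t + i) := by
    intro t i ht hi
    rw [rowsFrom_getD A 248 0 t ht, Nat.zero_add, show 2 ^ 2480 = RB by
      rw [RB, show (1024 : ℕ) = 2 ^ 10 by norm_num, ← pow_mul], fld, fld, Nat.shiftRight_eq_div_pow,
      show (2 : ℕ) ^ (2480 * t) = 1024 ^ (248 * t) by
        rw [show (1024 : ℕ) = 2 ^ 10 by norm_num, ← pow_mul]; ring_nf,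
      pow_add, ← Nat.div_div_eq_div_mul]
    generalize A / 1024 ^ (248 * t) = x
    rw [RB, show (1024 : ℕ) ^ 248 = 1024 ^ i * 1024 * 1024 ^ (248 - i - 1) by
      rw [← pow_succ, ← pow_add]; congr 1; omega, mul_assoc, Nat.mod_mul_right_div_self, Nat.mod_mul_right_mod]
  refine ⟨fun b hb => ?_, ?_⟩
  · obtain ⟨t, ht, rfl⟩ := List.getElem_of_mem hb
    rw [rowsFrom_length] at ht
    rw [← List.getD_eq_getElem _ 0]
    refine ⟨?_, fun q hq => by rw [hf t q ht hq]; exact hA.fld_le _⟩
    rw [rowsFrom_getD A 248 0 t ht, show 2 ^ 2480 = 1024 ^ 248 by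
      rw [show (1024 : ℕ) = 2 ^ 10 by norm_num, ← pow_mul]]
    exact Nat.mod_lt _ (by positivity)
  · funext j i
    show ((fld ((rws A).getD j.val 0) i.val : ℕ) : ZMod 3) = _
    rw [hf j.val i.val j.isLt i.isLt]
    rfl

theorem mm3_spec {A B : ℕ} (hA : RedN (248 * 248) A) (hB : RedN (248 * 248) B) :
    RedN (248 * 248) (mm3 A B) ∧ toMN 248 (mm3 A B) = toMN 248 A * toMN 248 B := by
  obtain ⟨h1, h2⟩ := rws_spec hB
  rw [← h2]
  exact toMN_prod (rowsFrom_length B 248 0) hA h1

/-- The packed matrix of a member. -/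
def gM (Ms : List (List ℕ)) (i : ℕ) : ℕ := packRows (Ms.getD i [])

/-- A member as a matrix. -/
def gEl (ws : List (List ℕ)) (i : ℕ) : GL (Fin 248) (ZMod 3) := ((ws.getD i []).map letGL).prod

/-- A product with members. -/
noncomputable def mulSeq (Ms : List (List ℕ)) : ℕ → List ℕ → ℕ
  | A, [] => A
  | A, i :: e => mulSeq Ms (prodG 248 A (Ms.getD i [])) e

/-- The rows of a member are the matrix of its word. -/
noncomputable def linkOK (ws Ms : List (List ℕ)) (i : ℕ) : Bool :=
  ((ws.getD i []).all fun x => Nat.blt x 16) && Nat.beq (Ms.getD i []).length 248 &&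
    (Ms.getD i []).all (redOK 1) && Nat.beq (wmat (ws.getD i [])) (gM Ms i)

/-- A power of a member is the product of some earlier members. -/
noncomputable def powOK (Ms : List (List ℕ)) (p i : ℕ) (e : List ℕ) : Bool :=
  (e.all fun k => Nat.blt k i) && Nat.beq (mulSeq Ms one248 (List.replicate p i)) (mulSeq Ms one248 e)

/-- A conjugate of a member is the product of some earlier members. -/
noncomputable def conjOK (Ms : List (List ℕ)) (i j : ℕ) (e : List ℕ) : Bool :=
  (e.all fun k => Nat.blt k i) && Nat.beq (prodG 248 (gM Ms j) (Ms.getD i [])) (mulSeq Ms (gM Ms i) e)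

/-- The relations of one step. -/
noncomputable def relsOK (Ms : List (List ℕ)) (p i : ℕ) (pw : List ℕ) (cj : List (List ℕ)) : Bool :=
  powOK Ms p i pw && (List.range i).all fun j => conjOK Ms i j (cj.getD j [])

/-- An entry of a list of vectors in pieces of 32. -/
def vAt (V : List (List ℕ)) (k : ℕ) : ℕ := (V.getD (Nat.div k 32) []).getD (Nat.mod k 32) 0

/-- The orbit of a step: closed, reduced, and left by the member. -/
noncomputable def sepOK (Ms : List (List ℕ)) (i : ℕ) (V lk : List (List ℕ)) : Bool :=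
  let N := lk.length
  ((List.range N).all fun k => redOK 1 (vAt V k)) && Nat.blt 0 N &&
    ((List.range i).all fun j => (List.range N).all fun k =>
      let t := (lk.getD k []).getD j N
      Nat.blt t N && Nat.beq (prodG 1 (vAt V k) (Ms.getD j [])) (vAt V t)) &&
    (List.range N).all fun k => !Nat.beq (prodG 1 (vAt V 0) (Ms.getD i [])) (vAt V k)

section Sound

variable {ws Ms : List (List ℕ)} {n : ℕ}

theorem link_spec (hl : ∀ i < n, linkOK ws Ms i = true) {i : ℕ} (hi : i < n) :
    (Ms.getD i []).length = 248 ∧ (∀ b ∈ Ms.getD i [], RedN 248 b) ∧ RedN (248 * 248) (gM Ms i) ∧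
      rowsM (Ms.getD i []) = (gEl ws i).val ∧ toMN 248 (gM Ms i) = (gEl ws i).val := by
  have h := hl i hi
  simp only [linkOK, Bool.and_eq_true, List.all_eq_true, Nat.blt_eq] at h
  obtain ⟨⟨⟨hw, hlen⟩, hr⟩, he⟩ := h
  have hr' : ∀ b ∈ Ms.getD i [], RedN 248 b := fun b hb => redOK_sound (n := 1) (hr b hb)
  obtain ⟨h1, h2⟩ := packRows_mat (Nat.eq_of_beq_eq_true hlen) hr'
  obtain ⟨-, h3⟩ := wmat_spec hw
  have e : wmat (ws.getD i []) = gM Ms i := Nat.eq_of_beq_eq_true he
  rw [e] at h3
  exact ⟨Nat.eq_of_beq_eq_true hlen, hr', h1, h2.symm.trans h3, h3⟩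

attribute [local irreducible] mm3 wmat prodG one248 gM gEl redOK

theorem mulSeq_spec (hl : ∀ i < n, linkOK ws Ms i = true) : ∀ (e : List ℕ) (A : ℕ), (∀ k ∈ e, k < n) →
    RedN (248 * 248) A → RedN (248 * 248) (mulSeq Ms A e) ∧
      toMN 248 (mulSeq Ms A e) = toMN 248 A * ((e.map (gEl ws)).prod).val
  | [], A, _, hA => ⟨hA, by simp [mulSeq]⟩
  | i :: e, A, hk, hA => by
    obtain ⟨h1, h2, -, h2', -⟩ := link_spec hl (hk i List.mem_cons_self)
    obtain ⟨h3, h4⟩ := toMN_prod (n := 248) h1 hA h2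
    obtain ⟨h5, h6⟩ := mulSeq_spec hl e _ (fun k h => hk k (List.mem_cons_of_mem i h)) h3
    refine ⟨h5, h6.trans ?_⟩
    rw [h4, h2', Matrix.mul_assoc, List.map_cons, List.prod_cons, Units.val_mul]

theorem mulSeq_mem {G : Type*} [Group G] {g : ℕ → G} {i : ℕ} {e : List ℕ}
    (he : (e.all fun k => Nat.blt k i) = true) : (e.map g).prod ∈ headSub g i := by
  refine list_prod_mem fun a ha => ?_
  obtain ⟨k, hk, rfl⟩ := List.mem_map.1 ha
  exact Subgroup.subset_closure ⟨k, by simpa using List.all_eq_true.1 he k hk, rfl⟩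

theorem blt_lt {i : ℕ} {e : List ℕ} (he : (e.all fun k => Nat.blt k i) = true) (hi : i < n) : ∀ k ∈ e, k < n := by
  intro k hk
  have := List.all_eq_true.1 he k hk
  rw [Nat.blt_eq] at this
  omega

theorem rels_sound (hl : ∀ i < n, linkOK ws Ms i = true) {p i : ℕ} (hi : i < n) {pw : List ℕ} {cj : List (List ℕ)}
    (h : relsOK Ms p i pw cj = true) : gEl ws i ^ p ∈ headSub (gEl ws) i ∧
      ∀ j < i, (gEl ws i)⁻¹ * gEl ws j * gEl ws i ∈ headSub (gEl ws) i := by
  simp only [relsOK, powOK, conjOK, Bool.and_eq_true] at h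
  obtain ⟨⟨hp1, hp2⟩, hc⟩ := h
  refine ⟨?_, fun j hj => ?_⟩
  · obtain ⟨-, a⟩ := mulSeq_spec hl (List.replicate p i) one248
      (fun k hk => by rw [List.eq_of_mem_replicate hk]; exact hi) one248_spec.1
    obtain ⟨-, b⟩ := mulSeq_spec hl pw one248 (blt_lt hp1 hi) one248_spec.1
    rw [Nat.eq_of_beq_eq_true hp2, b, one248_spec.2, one_mul, one_mul, List.map_replicate, List.prod_replicate] at a
    rw [← Units.ext a]
    exact mulSeq_mem hp1
  · obtain ⟨h1, h2⟩ := (Bool.and_eq_true _ _).mp (List.all_eq_true.1 hc j (List.mem_range.2 hj))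
    obtain ⟨li, bi, ri, ei', ei⟩ := link_spec hl hi
    obtain ⟨-, -, rj, -, ej⟩ := link_spec hl (hj.trans hi)
    have a := (toMN_prod (n := 248) li rj bi).2
    rw [Nat.eq_of_beq_eq_true h2, (mulSeq_spec hl (cj.getD j []) _ (blt_lt h1 hi) ri).2, ei, ej, ei', ← Units.val_mul,
      ← Units.val_mul] at a
    rw [mul_assoc, ← Units.ext a, inv_mul_cancel_left]
    exact mulSeq_mem h1

theorem sep_sound (hl : ∀ i < n, linkOK ws Ms i = true) {i : ℕ} (hi : i < n) {V lk : List (List ℕ)}
    (h : sepOK Ms i V lk = true) :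
    gEl ws i ∉ headSub (gEl ws) i := by
  simp only [sepOK, Bool.and_eq_true, List.all_eq_true, List.mem_range, Nat.blt_eq, Bool.not_eq_true'] at h
  obtain ⟨⟨⟨hred, hN⟩, hcl⟩, hout⟩ := h
  set N := lk.length
  have hr : ∀ k < N, RedN (248 * 1) (vAt V k) := fun k hk => redOK_sound (hred k hk)
  have act : ∀ j k, j < n → k < N → RedN (248 * 1) (prodG 1 (vAt V k) (Ms.getD j [])) ∧
      toMN 1 (prodG 1 (vAt V k) (Ms.getD j [])) = toMN 1 (vAt V k) * (gEl ws j).val := fun j k hj hk => by
    obtain ⟨h1, h2, -, h4, -⟩ := link_spec hl hj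
    rw [← h4]
    exact toMN_prod h1 (hr k hk) h2
  have key : ∀ g ∈ headSub (gEl ws) i, ∀ k < N, ∃ t < N, toMN 1 (vAt V k) * g.val = toMN 1 (vAt V t) := by
    intro g hg
    induction hg using Subgroup.closure_induction with
    | mem x hx =>
      obtain ⟨j, hj, rfl⟩ := hx
      intro k hk
      obtain ⟨ht, he⟩ := hcl j hj k hk
      exact ⟨_, ht, by rw [← Nat.eq_of_beq_eq_true he, (act j k ((Set.mem_Iio.1 hj).trans hi) hk).2]⟩
    | one => exact fun k hk => ⟨k, hk, by simp⟩
    | mul a b _ _ iha ihb =>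
      intro k hk
      obtain ⟨t, ht, e⟩ := iha k hk
      obtain ⟨t', ht', e'⟩ := ihb t ht
      exact ⟨t', ht', by rw [Units.val_mul, ← Matrix.mul_assoc, e, e']⟩
    | inv a _ iha =>
      intro k hk
      have hpow : ∀ m : ℕ, ∀ k < N, ∃ t < N, toMN 1 (vAt V k) * (a ^ m).val = toMN 1 (vAt V t) := by
        intro m
        induction m with
        | zero => exact fun k hk => ⟨k, hk, by simp⟩
        | succ m ihm =>
          intro k hk
          obtain ⟨t, ht, e⟩ := ihm k hk
          obtain ⟨t', ht', e'⟩ := iha t ht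
          exact ⟨t', ht', by rw [pow_succ, Units.val_mul, ← Matrix.mul_assoc, e, e']⟩
      have e : a⁻¹ = a ^ (orderOf a - 1) := by
        refine inv_eq_of_mul_eq_one_right ?_
        rw [← pow_succ', show orderOf a - 1 + 1 = orderOf a by have := orderOf_pos a; omega, pow_orderOf_eq_one]
      rw [e]
      exact hpow _ k hk
  intro hmem
  obtain ⟨t, ht, e⟩ := key _ hmem 0 hN
  obtain ⟨r1, r2⟩ := act i 0 hi hN
  exact Nat.ne_of_beq_eq_false (hout t ht) (toMN_inj r1 (hr t ht) (r2.trans e))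

end Sound

end Cfsg.Lib.ThRep
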